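import Mathlib
import Cfsg.Agent.Lib.ThreeTrans.TypeTop.Classify24

/-! Type M(24): the frames of a product `z` of four commuting members, the sets of four with product `z`. The
members of two frames commute all or none, and all four members of a frame move the frames alike. -/

set_option autoImplicit false

namespace CfsgLib.ThreeTrans.QuadFrame

open CfsgLib.ThreeTrans CfsgLib.ThreeTrans.Tower CfsgLib.ThreeTrans.TypeTop

variable {G : Type*} [Group G] {D : Set G}

/-- The standing hypotheses. -/
structure Hyp (D : Set G) : Prop where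
  group : Cfsg.IsThreeTranspositionGroup D
  prim : Cfsg.IsPrimitiveUnderConj D
  m24 : Cfsg.IsOfTypeM24 G D

/-- Four commuting members with product `z`. -/
structure Quad (D : Set G) (z a b c e : G) : Prop where
  ma : a ∈ D
  hb : b ∈ Dd D a
  hc : c ∈ Dd D a ∩ Dd D b
  he : e ∈ Dd D a ∩ (Dd D b ∩ Dd D c)
  prod : a * (b * (c * e)) = z

namespace Quad

variable {z a b c e : G} (q : Quad D z a b c e)
include q

theorem mb : b ∈ D := q.hb.1
theorem mc : c ∈ D := q.hc.1.1
theorem me : e ∈ D := q.he.1.1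
theorem cab : Commute a b := q.hb.2.2
theorem cac : Commute a c := q.hc.1.2.2
theorem cae : Commute a e := q.he.1.2.2
theorem cbc : Commute b c := q.hc.2.2.2
theorem cbe : Commute b e := q.he.2.1.2.2
theorem cce : Commute c e := q.he.2.2.2.2
theorem nab : a ≠ b := Ne.symm q.hb.2.1
theorem nac : a ≠ c := Ne.symm q.hc.1.2.1
theorem nae : a ≠ e := Ne.symm q.he.1.2.1
theorem nbc : b ≠ c := Ne.symm q.hc.2.2.1
theorem nbe : b ≠ e := Ne.symm q.he.2.1.2.1
theorem nce : c ≠ e := Ne.symm q.he.2.2.2.1

theorem rot : Quad D z b c e a := by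
  refine ⟨q.mb, q.hc.2, ⟨q.he.2.1, q.he.2.2⟩, ⟨Dd_symm q.ma q.hb, Dd_symm q.ma q.hc.1, Dd_symm q.ma q.he.1⟩, ?_⟩
  rw [← q.prod, (q.cab.mul_right (q.cac.mul_right q.cae)).eq]
  simp only [mul_assoc]

theorem swap : Quad D z b a c e :=
  ⟨q.mb, Dd_symm q.ma q.hb, ⟨q.hc.2, q.hc.1⟩, ⟨q.he.2.1, q.he.1, q.he.2.2⟩, by
    rw [← q.prod, ← mul_assoc, ← q.cab.eq, mul_assoc]⟩

theorem comm_z {g : G} (ga : Commute g a) (gb : Commute g b) (gc : Commute g c) (ge : Commute g e) : Commute g z :=
  q.prod ▸ ga.mul_right (gb.mul_right (gc.mul_right ge))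

theorem comm_self : Commute a z := q.comm_z (Commute.refl a) q.cab q.cac q.cae

theorem comm_mem {y f : G} (hy : y ∈ ({a, b, c, e} : Set G)) (hf : f ∈ ({a, b, c, e} : Set G)) : Commute y f := by
  rcases hy with rfl | rfl | rfl | rfl <;> rcases hf with rfl | rfl | rfl | rfl <;>
    first
      | exact Commute.refl _
      | exact q.cab | exact q.cac | exact q.cae | exact q.cbc | exact q.cbe | exact q.cce
      | exact q.cab.symm | exact q.cac.symm | exact q.cae.symm | exact q.cbc.symm | exact q.cbe.symm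
      | exact q.cce.symm

theorem mem_D {y : G} (hy : y ∈ ({a, b, c, e} : Set G)) : y ∈ D := by
  rcases hy with rfl | rfl | rfl | rfl
  exacts [q.ma, q.mb, q.mc, q.me]

/-- Any member of the frame may come first. -/
theorem first {y : G} (hy : y ∈ ({a, b, c, e} : Set G)) :
    ∃ p r s, Quad D z y p r s ∧ ({y, p, r, s} : Set G) = {a, b, c, e} := by
  rcases hy with rfl | rfl | rfl | rfl
  · exact ⟨_, _, _, q, rfl⟩
  · exact ⟨_, _, _, q.rot, by ext; simp; tauto⟩
  · exact ⟨_, _, _, q.rot.rot, by ext; simp; tauto⟩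
  · exact ⟨_, _, _, q.rot.rot.rot, by ext; simp; tauto⟩

theorem conj (hc : ConjClosed D) {g : G} (hg : Commute g z) :
    Quad D z (g * a * g⁻¹) (g * b * g⁻¹) (g * c * g⁻¹) (g * e * g⁻¹) :=
  ⟨hc.conj g a q.ma, conj_mem_Dd_conj hc g q.hb, ⟨conj_mem_Dd_conj hc g q.hc.1, conj_mem_Dd_conj hc g q.hc.2⟩,
    ⟨conj_mem_Dd_conj hc g q.he.1, conj_mem_Dd_conj hc g q.he.2.1, conj_mem_Dd_conj hc g q.he.2.2⟩, by
      have := congrArg (fun t => g * t * g⁻¹) q.prod
      simp only [hg.eq, mul_inv_cancel_right] at this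
      rw [← this]; group⟩

theorem ncard : ({a, b, c, e} : Set G).ncard = 4 := by
  classical
  rw [show ({a, b, c, e} : Set G) = ↑({a, b, c, e} : Finset G) by simp, Set.ncard_coe_finset,
    Finset.card_insert_of_notMem (by simp [q.nab, q.nac, q.nae]),
    Finset.card_insert_of_notMem (by simp [q.nbc, q.nbe]), Finset.card_pair q.nce]

end Quad

/-- The frames. -/
def frameSet (D : Set G) (z : G) : Set (Set G) :=
  {F | ∃ a b c e, Quad D z a b c e ∧ F = {a, b, c, e}}

/-- A frame. -/
abbrev Fr (D : Set G) (z : G) : Type _ := ↥(frameSet D z)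

variable {z : G}

theorem quad_of_mem {F : Fr D z} {y : G} (hy : y ∈ F.1) :
    ∃ b c e, Quad D z y b c e ∧ F.1 = {y, b, c, e} := by
  obtain ⟨a, b, c, e, q, hF⟩ := F.2
  rw [hF] at hy
  obtain ⟨p, r, s, q', e'⟩ := q.first hy
  exact ⟨p, r, s, q', hF.trans e'.symm⟩

theorem mem_D {F : Fr D z} {y : G} (hy : y ∈ F.1) : y ∈ D := by
  obtain ⟨_, _, _, q, -⟩ := quad_of_mem hy; exact q.ma

theorem comm_z {F : Fr D z} {y : G} (hy : y ∈ F.1) : Commute y z := by
  obtain ⟨_, _, _, q, -⟩ := quad_of_mem hy; exact q.comm_self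

theorem comm_same {F : Fr D z} {y f : G} (hy : y ∈ F.1) (hf : f ∈ F.1) : Commute y f := by
  obtain ⟨a, b, c, e, q, hF⟩ := F.2
  rw [hF] at hy hf
  exact q.comm_mem hy hf

theorem nonempty (F : Fr D z) : F.1.Nonempty := by
  obtain ⟨a, b, c, e, -, hF⟩ := F.2
  exact ⟨a, hF ▸ Set.mem_insert _ _⟩

theorem ncard_frame (F : Fr D z) : F.1.ncard = 4 := by
  obtain ⟨a, b, c, e, q, hF⟩ := F.2
  rw [hF, q.ncard]

/-- The frame of four. -/
def Quad.frame {a b c e : G} (q : Quad D z a b c e) : Fr D z := ⟨{a, b, c, e}, a, b, c, e, q, rfl⟩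

theorem Quad.mem_frame {a b c e : G} (q : Quad D z a b c e) : a ∈ q.frame.1 := Set.mem_insert _ _

/-- The image of a frame under conjugation. -/
def move (hc : ConjClosed D) (g : Subgroup.centralizer ({z} : Set G)) (F : Fr D z) : Fr D z :=
  ⟨(fun y => (g : G) * y * (g : G)⁻¹) '' F.1, by
    obtain ⟨a, b, c, e, q, hF⟩ := F.2
    refine ⟨_, _, _, _, q.conj hc (Subgroup.mem_centralizer_singleton_iff.1 g.2), ?_⟩
    rw [hF]
    simp [Set.image_insert_eq]⟩

/-- The action of the centraliser of `z` on the frames. -/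
def act (hc : ConjClosed D) : Subgroup.centralizer ({z} : Set G) →* Equiv.Perm (Fr D z) where
  toFun g :=
    { toFun := move hc g
      invFun := move hc g⁻¹
      left_inv := fun F => Subtype.ext (by simp [move, Set.image_image, mul_assoc])
      right_inv := fun F => Subtype.ext (by simp [move, Set.image_image, mul_assoc]) }
  map_one' := Equiv.ext fun F => Subtype.ext (by simp [move])
  map_mul' g g' := Equiv.ext fun F => Subtype.ext (by simp [move, Set.image_image, mul_assoc])

theorem mem_act (hc : ConjClosed D) {g : Subgroup.centralizer ({z} : Set G)} {F : Fr D z} {y : G} (hy : y ∈ F.1) :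
    (g : G) * y * (g : G)⁻¹ ∈ (act hc g F).1 := ⟨y, hy, rfl⟩

/-- A member of a frame as an element of the centraliser. -/
def elt {F : Fr D z} {y : G} (hy : y ∈ F.1) : Subgroup.centralizer ({z} : Set G) :=
  ⟨y, Subgroup.mem_centralizer_singleton_iff.2 (comm_z hy).eq⟩

@[simp] theorem coe_elt {F : Fr D z} {y : G} (hy : y ∈ F.1) : (elt hy : G) = y := rfl

/-- The chosen member. -/
noncomputable def rep (F : Fr D z) : G := (nonempty F).some

theorem rep_mem (F : Fr D z) : rep F ∈ F.1 := (nonempty F).some_mem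

/-- The permutation of the frames by the members of one. -/
noncomputable def sig (hc : ConjClosed D) (F : Fr D z) : Equiv.Perm (Fr D z) := act hc (elt (rep_mem F))

/-- All members of two frames commute. -/
def Perp (F F' : Fr D z) : Prop := ∀ y ∈ F.1, ∀ f ∈ F'.1, Commute y f

theorem Perp.symm {F F' : Fr D z} (h : Perp F F') : Perp F' F := fun f hf y hy => (h y hy f hf).symm

theorem Perp.refl (F : Fr D z) : Perp F F := fun _ hy _ hf => comm_same hy hf

section
variable [Finite G] (H : Hyp D)
include H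

omit [Finite G] in
theorem Hyp.closed : ConjClosed D := conjClosed_of_group H.group

omit [Finite G] in
theorem Hyp.set : Cfsg.IsThreeTranspositionSet D := H.group.1

theorem Hyp.rel : ∀ j, 1 ≤ j → j ≤ 7 → NoRel D j := noRel24 H.group H.prim H.m24

/-- A member lies in one frame at most. -/
theorem frame_eq {F F' : Fr D z} {y : G} (hy : y ∈ F.1) (hy' : y ∈ F'.1) : F = F' := by
  obtain ⟨b, c, e, q, hF⟩ := quad_of_mem hy
  obtain ⟨b', c', e', q', hF'⟩ := quad_of_mem hy'
  have h : b * c * e = b' * c' * e' := by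
    have := mul_left_cancel (q.prod.trans q'.prod.symm)
    simpa only [mul_assoc] using this
  rcases triple_cases H.set (H.rel 4 (by norm_num) (by norm_num)) q.mb q.mc q.me q'.mb q'.mc q'.me q.nbc q.nbe
    q.nce q'.nbc q'.nbe q'.nce q.cbc q.cbe q.cce q'.cbc q'.cbe q'.cce h with hiff | ⟨n6, c6, p6⟩
  · refine Subtype.ext ?_
    rw [hF, hF']
    ext x
    have := hiff x
    simp only [List.mem_cons, List.not_mem_nil, or_false] at this
    simp only [Set.mem_insert_iff, Set.mem_singleton_iff]
    tauto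
  · refine absurd p6 (H.rel 6 (by norm_num) (by norm_num) _ n6 rfl ?_ c6)
    simp only [List.mem_cons, List.not_mem_nil, or_false]
    rintro x (rfl | rfl | rfl | rfl | rfl | rfl)
    exacts [q.mb, q.mc, q.me, q'.mb, q'.mc, q'.me]

/-- A member commuting with `z` and one member of a frame commutes with all. -/
theorem comm_all {F : Fr D z} {y f : G} (hy : y ∈ D) (hyz : Commute y z) (hf : f ∈ F.1) (h : Commute y f) :
    ∀ x ∈ F.1, Commute y x := by
  obtain ⟨b, c, e, q, hF⟩ := quad_of_mem hf
  have h3 : Commute y (b * (c * e)) := by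
    have := h.inv_right.mul_right hyz
    rwa [← q.prod, inv_mul_cancel_left] at this
  have h4 := commute_factors H.set H.closed (H.rel 4 (by norm_num) (by norm_num)) (H.rel 6 (by norm_num) (by norm_num))
    (l := [b, c, e]) (by simp [q.nbc, q.nbe, q.nce]) le_rfl (by simp [q.mb, q.mc, q.me])
    (by simp [q.cbc, q.cbe, q.cce, q.cbc.symm, q.cbe.symm, q.cce.symm]) hy
    (by simpa only [List.prod_cons, List.prod_nil, mul_one] using h3)
  intro x hx
  rw [hF] at hx
  rcases hx with rfl | rfl | rfl | rfl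
  exacts [h, h4 _ (by simp), h4 _ (by simp), h4 _ (by simp)]

theorem perp_of_comm {F F' : Fr D z} {y f : G} (hy : y ∈ F.1) (hf : f ∈ F'.1) (h : Commute y f) : Perp F F' :=
  fun x hx g hg => (comm_all H (mem_D hg) (comm_z hg) hy
    (comm_all H (mem_D hy) (comm_z hy) hf h g hg).symm x hx).symm

theorem not_comm {F F' : Fr D z} (h : ¬ Perp F F') {y f : G} (hy : y ∈ F.1) (hf : f ∈ F'.1) : ¬ Commute y f :=
  fun k => h (perp_of_comm H hy hf k)

theorem act_elt_perp {F F' : Fr D z} (h : Perp F F') {y : G} (hy : y ∈ F.1) : act H.closed (elt hy) F' = F' := by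
  obtain ⟨f, hf⟩ := nonempty F'
  refine frame_eq H (mem_act H.closed hf) ?_
  rw [coe_elt, (h y hy f hf).eq, mul_inv_cancel_right]
  exact hf

theorem act_elt_far {F F' : Fr D z} (h : ¬ Perp F F') {y f : G} (hy : y ∈ F.1) (hf : f ∈ F'.1) :
    act H.closed (elt hy) F' = act H.closed (elt hf) F := by
  refine frame_eq H (mem_act (g := elt hy) H.closed hf) ?_
  have := mem_act (g := elt hf) H.closed hy
  rw [coe_elt, inv_eq H.set (mem_D hf), ← braid H.set (mem_D hy) (mem_D hf) (not_comm H h hy hf)] at this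
  rw [coe_elt, inv_eq H.set (mem_D hy)]
  exact this

/-- All members of a frame move the frames alike. -/
theorem act_elt {F : Fr D z} {y : G} (hy : y ∈ F.1) : act H.closed (elt hy) = sig H.closed F := by
  refine Equiv.ext fun F' => ?_
  by_cases h : Perp F F'
  · rw [sig, act_elt_perp H h hy, act_elt_perp H h (rep_mem F)]
  · obtain ⟨f, hf⟩ := nonempty F'
    rw [sig, act_elt_far H h hy hf, act_elt_far H h (rep_mem F) hf]

theorem sig_perp {F F' : Fr D z} (h : Perp F F') : sig H.closed F F' = F' := act_elt_perp H h (rep_mem F)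

theorem sig_far {F F' : Fr D z} (h : ¬ Perp F F') : sig H.closed F F' = sig H.closed F' F :=
  act_elt_far H h (rep_mem F) (rep_mem F')

theorem sig_fix {F F' : Fr D z} : sig H.closed F F' = F' ↔ Perp F F' := by
  refine ⟨fun e => ?_, sig_perp H⟩
  by_contra h
  have hy := rep_mem F
  have hf := rep_mem F'
  have hn := not_comm H h hy hf
  have ff := mul_self H.set (mem_D hf)
  have h1 : rep F * rep F' * (rep F)⁻¹ ∈ F'.1 := by
    have := mem_act (g := elt hy) H.closed hf
    rwa [show act H.closed (elt hy) F' = F' from e] at this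
  rw [inv_eq H.set (mem_D hy), braid H.set (mem_D hy) (mem_D hf) hn] at h1
  have h2 := comm_same hf h1
  refine hn (Commute.symm ?_)
  have e2 : rep F = rep F' * (rep F' * rep F * rep F') * rep F' := by
    simp only [mul_assoc, mul_self_mul H.set (mem_D hf), ff, mul_one]
  rw [e2]
  exact ((Commute.refl _).mul_right h2).mul_right (Commute.refl _)

/-- Conjugation carries the permutations along. -/
theorem conj_sig (g : Subgroup.centralizer ({z} : Set G)) (F : Fr D z) :
    act H.closed g * sig H.closed F * (act H.closed g)⁻¹ = sig H.closed (act H.closed g F) := by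
  rw [sig, ← map_inv, ← map_mul, ← map_mul, ← act_elt H (mem_act (g := g) H.closed (rep_mem F))]
  exact congrArg _ (Subtype.ext rfl)

theorem sig_sq (F : Fr D z) : sig H.closed F * sig H.closed F = 1 := by
  rw [sig, ← map_mul, show elt (rep_mem F) * elt (rep_mem F) = 1 from
    Subtype.ext (mul_self H.set (mem_D (rep_mem F))), map_one]

theorem sig_conj (F F' : Fr D z) :
    sig H.closed F * sig H.closed F' * (sig H.closed F)⁻¹ = sig H.closed (sig H.closed F F') := conj_sig H _ F'

/-- The product of two members of a frame moves every member of a frame not commuting with it. -/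
theorem pair_move {F F' : Fr D z} (h : ¬ Perp F F') {a b f : G} (ha : a ∈ F.1) (hb : b ∈ F.1) (hne : a ≠ b)
    (hf : f ∈ F'.1) : ¬ Commute (a * b) f := fun k =>
  not_comm H h ha hf (commute_of_commute_two H.set (mem_D ha) (mem_D hb) (mem_D hf) hne (comm_same ha hb) k.symm).1.symm

/-- Two members of one frame move the frames alike. -/
theorem act_pair {F : Fr D z} {a b : G} (ha : a ∈ F.1) (hb : b ∈ F.1) : act H.closed (elt ha * elt hb) = 1 := by
  rw [map_mul, act_elt H ha, act_elt H hb, sig_sq H]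

end

end CfsgLib.ThreeTrans.QuadFrame
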