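import Mathlib
import Cfsg.Agent.Lib.ThreeTrans.Tower.Step

/-! In a graph with constant parameters a set of the right size and inner valency meets the neighbours of
every vertex outside it in the same number of vertices (the variance is zero). -/

set_option autoImplicit false

namespace CfsgLib.ThreeTrans.QuadFrame

open Finset CfsgLib.ThreeTrans CfsgLib.ThreeTrans.Tower

/-- The variance argument. -/
theorem const_outside {α : Type*} [DecidableEq α] (E T : Finset α) (R : α → α → Prop) [DecidableRel R]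
    (hTE : T ⊆ E) (hsymm : ∀ u w, R u w → R w u) (hirr : ∀ u, ¬ R u u) {k l m i : ℕ} {c : ℤ}
    (hdeg : ∀ y ∈ T, (E.filter (R y)).card = k) (hin : ∀ y ∈ T, (T.filter (R y)).card = i)
    (hl : ∀ y ∈ T, ∀ y' ∈ T, R y y' → (E.filter fun u => R y u ∧ R y' u).card = l)
    (hm : ∀ y ∈ T, ∀ y' ∈ T, y ≠ y' → ¬ R y y' → (E.filter fun u => R y u ∧ R y' u).card = m)
    (h1 : (T.card : ℤ) * k = T.card * i + c * (E.card - T.card))
    (h2 : (T.card : ℤ) * (k + i * l + ((T.card : ℤ) - 1 - i) * m) =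
      T.card * i * i + c * (c * (E.card - T.card))) :
    ∀ u ∈ E, u ∉ T → ((T.filter (R u)).card : ℤ) = c := by
  classical
  set d : α → ℤ := fun u => ((T.filter (R u)).card : ℤ) with hd
  have hdsum : ∀ u, d u = ∑ y ∈ T, if R u y then (1 : ℤ) else 0 := fun u => by
    simp only [hd]; rw [Finset.sum_boole]
  have hS1 : ∑ u ∈ E, d u = T.card * k := by
    simp only [hdsum]
    rw [Finset.sum_comm, Finset.sum_congr rfl fun y hy => ?_]
    · rw [Finset.sum_const, nsmul_eq_mul]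
    · rw [Finset.sum_boole, ← hdeg y hy,
        show E.filter (fun u => R u y) = E.filter (R y) from
          Finset.filter_congr fun u _ => ⟨hsymm u y, hsymm y u⟩]
  have hrow : ∀ y ∈ T, ∑ y' ∈ T, (((E.filter fun u => R y u ∧ R y' u).card : ℤ)) =
      k + i * l + ((T.card : ℤ) - 1 - i) * m := by
    intro y hy
    rw [← Finset.add_sum_erase _ _ hy, show (E.filter fun u => R y u ∧ R y u) = E.filter (R y) from
      Finset.filter_congr fun u _ => and_self_iff, hdeg y hy,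
      ← Finset.sum_filter_add_sum_filter_not (T.erase y) (R y),
      Finset.sum_congr rfl (g := fun _ => (l : ℤ)) (fun y' hy' => by
        rw [mem_filter, mem_erase] at hy'; rw [hl y hy y' hy'.1.2 hy'.2]),
      Finset.sum_const,
      Finset.sum_congr rfl (g := fun _ => (m : ℤ)) (fun y' hy' => by
        rw [mem_filter, mem_erase] at hy'; rw [hm y hy y' hy'.1.2 (Ne.symm hy'.1.1) hy'.2]),
      Finset.sum_const, nsmul_eq_mul, nsmul_eq_mul]
    have e1 : ((T.erase y).filter (R y)) = T.filter (R y) := by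
      ext z; simp only [mem_filter, mem_erase]
      exact ⟨fun h => ⟨h.1.2, h.2⟩, fun h => ⟨⟨fun e => hirr y (e ▸ h.2), h.1⟩, h.2⟩⟩
    have e2 := Finset.card_filter_add_card_filter_not (s := T.erase y) (R y)
    rw [e1, hin y hy, Finset.card_erase_of_mem hy] at e2
    rw [e1, hin y hy]
    have : 0 < T.card := Finset.card_pos.2 ⟨y, hy⟩
    push_cast [show ((T.erase y).filter fun a => ¬ R y a).card = T.card - 1 - i by omega,
      Nat.cast_sub (show i ≤ T.card - 1 by omega), Nat.cast_sub (show 1 ≤ T.card by omega)]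
    ring
  have hS2 : ∑ u ∈ E, d u * d u = T.card * (k + i * l + ((T.card : ℤ) - 1 - i) * m) := by
    simp only [hdsum, Finset.sum_mul_sum]
    rw [Finset.sum_comm, Finset.sum_congr rfl (g := fun _ => (k : ℤ) + i * l + ((T.card : ℤ) - 1 - i) * m)
      fun y hy => ?_, Finset.sum_const, nsmul_eq_mul]
    rw [Finset.sum_comm, ← hrow y hy]
    refine Finset.sum_congr rfl fun y' _ => ?_
    rw [← Finset.sum_boole]
    refine Finset.sum_congr rfl fun u _ => ?_
    by_cases a : R u y <;> by_cases b : R u y'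
    · simp [a, b, hsymm _ _ a, hsymm _ _ b]
    all_goals
      simp [a, b]
      intro a'
      first
        | exact absurd (hsymm _ _ a') a
        | exact fun b' => b (hsymm _ _ b')
  have hTd : ∀ u ∈ T, d u = i := fun u hu => by simp only [hd]; rw [hin u hu]
  have z1 := Finset.sum_sdiff (f := d) hTE
  have z2 := Finset.sum_sdiff (f := fun u => d u * d u) hTE
  rw [hS1, Finset.sum_congr rfl hTd, Finset.sum_const, nsmul_eq_mul] at z1
  rw [hS2, Finset.sum_congr (s₁ := T) rfl (g := fun _ => (i : ℤ) * i) (fun u hu => by rw [hTd u hu]),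
    Finset.sum_const, nsmul_eq_mul] at z2
  have hc : ((E \ T).card : ℤ) = E.card - T.card := by
    rw [Finset.card_sdiff_of_subset hTE, Nat.cast_sub (Finset.card_le_card hTE)]
  have hzero : ∑ u ∈ E \ T, (d u - c) * (d u - c) = 0 := by
    simp only [show ∀ u, (d u - c) * (d u - c) = d u * d u + (-2 * c) * d u + c * c from fun u => by ring,
      Finset.sum_add_distrib, ← Finset.mul_sum, Finset.sum_const, nsmul_eq_mul]
    rw [hc]
    linear_combination z2 + (-2 * c) * z1 + h2 + (-2 * c) * h1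
  intro u hu hu'
  have := (Finset.sum_eq_zero_iff_of_nonneg fun v _ => mul_self_nonneg (d v - c)).1 hzero u
    (Finset.mem_sdiff.2 ⟨hu, hu'⟩)
  exact sub_eq_zero.1 (mul_self_eq_zero.1 this)

variable {Y : Type*} [Group Y] {E : Set Y} {N k l m : ℕ}

/-- The same for a class with constant parameters. -/
theorem outside_count [Finite Y] (L : Local E N k l m) {T : Set Y} (hT : T ⊆ E) {t i c : ℕ} (ht : T.ncard = t)
    (hin : ∀ y ∈ T, (T ∩ Dd E y).ncard = i)
    (h1 : (t : ℤ) * k = t * i + c * ((N : ℤ) - t))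
    (h2 : (t : ℤ) * (k + i * l + ((t : ℤ) - 1 - i) * m) = t * i * i + c * (c * ((N : ℤ) - t)))
    {u : Y} (hu : u ∈ E) (hu' : u ∉ T) : (T ∩ Dd E u).ncard = c := by
  classical
  let _ : Fintype Y := Fintype.ofFinite Y
  let R : Y → Y → Prop := fun a b => a ∈ E ∧ b ∈ E ∧ b ≠ a ∧ Commute a b
  have hR : ∀ a ∈ E, ∀ b, R a b ↔ b ∈ Dd E a := fun a ha b =>
    ⟨fun h => ⟨h.2.1, h.2.2.1, h.2.2.2⟩, fun h => ⟨ha, h.1, h.2.1, h.2.2⟩⟩
  have ht' : T.toFinset.card = t := by rw [← Set.ncard_eq_toFinset_card']; exact ht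
  have hN : E.toFinset.card = N := by rw [← Set.ncard_eq_toFinset_card']; exact L.card
  have hTfil : ∀ a ∈ E, (T.toFinset.filter (R a)).card = (T ∩ Dd E a).ncard := fun a ha => by
    rw [Set.ncard_eq_toFinset_card' (T ∩ Dd E a)]
    congr 1
    ext b
    simp [hR a ha]
  have hpair : ∀ a ∈ E, ∀ b ∈ E, (E.toFinset.filter fun z => R a z ∧ R b z).card = (Dd E a ∩ Dd E b).ncard :=
    fun a ha b hb => by
      rw [Set.ncard_eq_toFinset_card' (Dd E a ∩ Dd E b)]
      congr 1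
      ext z
      simp only [mem_filter, Set.mem_toFinset, Set.mem_inter_iff, hR a ha, hR b hb]
      exact ⟨fun h => h.2, fun h => ⟨h.1.1, h⟩⟩
  have h := const_outside E.toFinset T.toFinset R (Set.toFinset_mono hT)
    (fun a b h => ⟨h.2.1, h.1, Ne.symm h.2.2.1, h.2.2.2.symm⟩) (fun a h => h.2.2.1 rfl) (k := k) (l := l) (m := m)
    (i := i) (c := c)
    (fun y hy => by
      rw [Set.mem_toFinset] at hy
      rw [show (E.toFinset.filter (R y)) = E.toFinset.filter (fun z => R y z ∧ R y z) from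
        Finset.filter_congr fun _ _ => and_self_iff.symm, hpair y (hT hy) y (hT hy), Set.inter_self,
        L.deg y (hT hy)])
    (fun y hy => by rw [Set.mem_toFinset] at hy; rw [hTfil y (hT hy), hin y hy])
    (fun y hy y' hy' h => by
      rw [Set.mem_toFinset] at hy hy'
      rw [hpair y (hT hy) y' (hT hy'), L.lam y (hT hy) y' ((hR y (hT hy) y').1 h)])
    (fun y hy y' hy' hne h => by
      rw [Set.mem_toFinset] at hy hy'
      rw [hpair y (hT hy) y' (hT hy'), L.mu y (hT hy) y' (hT hy') fun hc =>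
        h ⟨hT hy, hT hy', Ne.symm hne, hc⟩])
    (by rw [ht', hN]; exact h1) (by rw [ht', hN]; exact h2) u (Set.mem_toFinset.2 hu)
    (fun k => hu' (Set.mem_toFinset.1 k))
  rw [hTfil u hu] at h
  exact_mod_cast h

variable {G : Type*} [Group G] [Finite G] {D : Set G} {a : G}

/-- Neighbourhoods carried by the model at a member. -/
theorem image_inter {π : Hd D a →* Y} (M : Model D a E π) {S : Set G} (hS : S ⊆ Dd D a) {u : G}
    (hu : u ∈ Dd D a) : phi π '' S ∩ Dd E (phi π u) = phi π '' (S ∩ Dd D u) := by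
  ext x
  constructor
  · rintro ⟨⟨y, hy, rfl⟩, h⟩
    exact ⟨y, ⟨hy, (M.mem_Dd hu (hS hy)).1 h⟩, rfl⟩
  · rintro ⟨y, ⟨hy, hyu⟩, rfl⟩
    exact ⟨⟨y, hy, rfl⟩, (M.mem_Dd hu (hS hy)).2 hyu⟩

theorem ncard_image {π : Hd D a →* Y} (M : Model D a E π) {S : Set G} (hS : S ⊆ Dd D a) :
    (phi π '' S).ncard = S.ncard :=
  Set.InjOn.ncard_image fun _ hx _ hy h => M.inj (hS hx) (hS hy) h

/-- Common neighbours of a commuting pair and a member commuting with neither. -/
theorem count_three [Finite Y] (S : Stage D E N k l m) {t c : ℕ}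
    (hmu : ∀ a ∈ D, ∀ f ∈ D, ¬ Commute a f → (Dd D a ∩ Dd D f).ncard = t)
    (h1 : (t : ℤ) * k = t * m + c * ((N : ℤ) - t))
    (h2 : (t : ℤ) * (k + m * l + ((t : ℤ) - 1 - m) * m) = t * m * m + c * (c * ((N : ℤ) - t)))
    {b f : G} (ha : a ∈ D) (hb : b ∈ Dd D a) (hf : f ∈ D) (haf : ¬ Commute a f) (hbf : ¬ Commute b f) :
    (Dd D a ∩ Dd D f ∩ Dd D b).ncard = c := by
  obtain ⟨π, M⟩ := S.base a ha
  set T := Dd D a ∩ Dd D f with hT
  have hTa : T ⊆ Dd D a := Set.inter_subset_left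
  have hsub : phi π '' T ⊆ E := by rintro _ ⟨y, hy, rfl⟩; exact M.mem (hTa hy)
  have hb' : phi π b ∉ phi π '' T := by
    rintro ⟨y, hy, e⟩
    exact hbf ((M.inj (hTa hy) hb e) ▸ hy.2.2.2.symm)
  have h := outside_count S.loc hsub (t := t) (i := m) (c := c)
    (by rw [ncard_image M hTa, hmu a ha f hf haf])
    (by
      rintro _ ⟨y, hy, rfl⟩
      rw [image_inter M hTa (hTa hy), ncard_image M (Set.inter_subset_left.trans hTa), Set.inter_comm]
      exact S.inner ha hf haf (hTa hy) hy.2)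
    h1 h2 (M.mem hb) hb'
  rwa [image_inter M hTa hb, ncard_image M (Set.inter_subset_left.trans hTa)] at h

/-- Common neighbours of a commuting triple and a member commuting with none of it. -/
theorem count_four {Z : Type*} [Group Z] [Finite Y] [Finite Z] {E₂ : Set Z} {N₂ k₂ l₂ m₂ : ℕ}
    (S : Stage D E N k l m) (S₂ : Stage E E₂ N₂ k₂ l₂ m₂) {t i c : ℕ}
    (h3 : ∀ a ∈ D, ∀ b ∈ Dd D a, ∀ f ∈ D, ¬ Commute a f → ¬ Commute b f →
      (Dd D a ∩ Dd D f ∩ Dd D b).ncard = t)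
    (h3' : ∀ a ∈ E, ∀ b ∈ Dd E a, ∀ f ∈ E, ¬ Commute a f → ¬ Commute b f →
      (Dd E a ∩ Dd E f ∩ Dd E b).ncard = i)
    (h1 : (t : ℤ) * k₂ = t * i + c * ((N₂ : ℤ) - t))
    (h2 : (t : ℤ) * (k₂ + i * l₂ + ((t : ℤ) - 1 - i) * m₂) = t * i * i + c * (c * ((N₂ : ℤ) - t)))
    {b e f : G} (ha : a ∈ D) (hb : b ∈ Dd D a) (he : e ∈ Dd D a ∩ Dd D b) (hf : f ∈ D)
    (haf : ¬ Commute a f) (hbf : ¬ Commute b f) (hef : ¬ Commute e f) :
    (Dd D a ∩ Dd D f ∩ Dd D b ∩ Dd D e).ncard = c := by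
  obtain ⟨π, M⟩ := S.base a ha
  set T := Dd D a ∩ Dd D f ∩ Dd D b with hT
  have hTa : T ⊆ Dd D a := fun y hy => hy.1.1
  obtain ⟨π₂, M₂⟩ := S₂.base (phi π b) (M.mem hb)
  set T₁ := phi π '' T with hT₁
  have hT₁b : T₁ ⊆ Dd E (phi π b) := by
    rintro _ ⟨y, hy, rfl⟩; exact (M.mem_Dd hb (hTa hy)).2 hy.2
  have heb : phi π e ∈ Dd E (phi π b) := (M.mem_Dd hb he.1).2 he.2
  have hsub : phi π₂ '' T₁ ⊆ E₂ := by rintro _ ⟨y, hy, rfl⟩; exact M₂.mem (hT₁b hy)
  have he' : phi π₂ (phi π e) ∉ phi π₂ '' T₁ := by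
    rintro ⟨_, ⟨y, hy, rfl⟩, e'⟩
    exact hef ((M.inj (hTa hy) he.1 (M₂.inj (hT₁b (Set.mem_image_of_mem _ hy)) heb e')) ▸ hy.1.2.2.2.symm)
  have hcard : ∀ {u : G} (hu : u ∈ Dd D a) (hub : u ∈ Dd D b),
      (phi π₂ '' T₁ ∩ Dd E₂ (phi π₂ (phi π u))).ncard = (T ∩ Dd D u).ncard := fun {u} hu hub => by
    rw [image_inter M₂ hT₁b ((M.mem_Dd hb hu).2 hub), ncard_image M₂ (Set.inter_subset_left.trans hT₁b), hT₁,
      image_inter M hTa hu, ncard_image M (Set.inter_subset_left.trans hTa)]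
  have h := outside_count S₂.loc hsub (t := t) (i := i) (c := c)
    (by rw [ncard_image M₂ hT₁b, hT₁, ncard_image M hTa]; exact h3 a ha b hb f hf haf hbf)
    (by
      rintro _ ⟨_, ⟨y, hy, rfl⟩, rfl⟩
      rw [hcard (hTa hy) hy.2]
      obtain ⟨πy, My⟩ := S.base y hy.2.1
      have ya := Dd_symm ha (hTa hy)
      have yb := Dd_symm hb.1 hy.2
      have yf := Dd_symm hf hy.1.2
      have hTy : T ∩ Dd D y ⊆ Dd D y := Set.inter_subset_right
      rw [← ncard_image My hTy, ← h3' _ (My.mem ya) _ ((My.mem_Dd ya yb).2 hb) _ (My.mem yf)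
        (fun k => haf ((My.comm ya yf).1 k)) fun k => hbf ((My.comm yb yf).1 k)]
      congr 1
      ext x
      constructor
      · rintro ⟨z, ⟨⟨⟨za, zf⟩, zb⟩, zy⟩, rfl⟩
        exact ⟨⟨(My.mem_Dd ya zy).2 za, (My.mem_Dd yf zy).2 zf⟩, (My.mem_Dd yb zy).2 zb⟩
      · rintro ⟨⟨xa, xf⟩, xb⟩
        obtain ⟨z, zy, rfl⟩ := My.onto xa.1
        exact ⟨z, ⟨⟨⟨(My.mem_Dd ya zy).1 xa, (My.mem_Dd yf zy).1 xf⟩, (My.mem_Dd yb zy).1 xb⟩, zy⟩, rfl⟩)
    h1 h2 (M₂.mem heb) he'
  rwa [hcard he.1 he.2] at h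

end CfsgLib.ThreeTrans.QuadFrame
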