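import Mathlib
import Cfsg.Agent.Lib.ThreeTrans.Tower.Peel
import Cfsg.Agent.Lib.ThreeTrans.Tower.Types
import Cfsg.Agent.Lib.ThreeTrans.Tower.PairCore
import Cfsg.Agent.Lib.ThreeTrans.TypeTop.ParityTop

/-! Type M(24): the centraliser of two commuting members maps onto a group of type M(22), and through it the
centraliser of four commuting members onto `PSU(4,2)`. -/

set_option autoImplicit false

namespace CfsgLib.ThreeTrans.QuadFrame

open CfsgLib.ThreeTrans CfsgLib.ThreeTrans.Tower CfsgLib.ThreeTrans.TypeTop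

universe u

variable {G : Type u} [Group G]

open Classical in
/-- A map on the centraliser, extended by one. -/
noncomputable def pm {Y : Type*} [Group Y] {c e : G} (ρ : Subgroup.centralizer ({c, e} : Set G) →* Y) (g : G) : Y :=
  if h : g ∈ Subgroup.centralizer ({c, e} : Set G) then ρ ⟨g, h⟩ else 1

theorem mem_pair {c e g : G} :
    g ∈ Subgroup.centralizer ({c, e} : Set G) ↔ Commute g c ∧ Commute g e := by
  rw [Subgroup.mem_centralizer_iff]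
  exact ⟨fun h => ⟨(h c (by simp)).symm, (h e (by simp)).symm⟩, fun h x hx => by
    rcases hx with rfl | rfl
    exacts [h.1.eq.symm, h.2.eq.symm]⟩

theorem mem_pair_Dd {D : Set G} {c e y : G} (hy : y ∈ Dd D c ∩ Dd D e) : y ∈ Subgroup.centralizer ({c, e} : Set G) :=
  mem_pair.2 ⟨hy.1.2.2.symm, hy.2.2.2.symm⟩

theorem pm_of_mem {Y : Type*} [Group Y] {c e : G} (ρ : Subgroup.centralizer ({c, e} : Set G) →* Y)
    (x : Subgroup.centralizer ({c, e} : Set G)) : pm ρ (x : G) = ρ x := by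
  rw [pm, dif_pos x.2]

/-- The group of type M(22) at two commuting members. -/
structure PairData (D : Set G) (c e : G) {Y : Type u} [Group Y] [Finite Y] (E : Set Y)
    (ρ : Subgroup.centralizer ({c, e} : Set G) →* Y) : Prop where
  group : Cfsg.IsThreeTranspositionGroup E
  prim : Cfsg.IsPrimitiveUnderConj E
  m22 : Cfsg.IsOfTypeM22 Y E
  surj : Function.Surjective ρ
  kernel : ∀ x, ρ x = 1 ↔ ((x : G) = 1 ∨ (x : G) = c) ∨ (x : G) = e ∨ (x : G) = c * e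
  mem : ∀ y ∈ Dd D c ∩ Dd D e, pm ρ y ∈ E
  inj : ∀ y ∈ Dd D c ∩ Dd D e, ∀ w ∈ Dd D c ∩ Dd D e, pm ρ y = pm ρ w → y = w
  onto : ∀ t ∈ E, ∃ y ∈ Dd D c ∩ Dd D e, pm ρ y = t
  comm : ∀ y ∈ Dd D c ∩ Dd D e, ∀ w ∈ Dd D c ∩ Dd D e, (Commute (pm ρ y) (pm ρ w) ↔ Commute y w)

variable [Finite G] {D : Set G}

theorem exists_pairData (hD : Cfsg.IsThreeTranspositionGroup D) (hprim : Cfsg.IsPrimitiveUnderConj D)
    (h24 : Cfsg.IsOfTypeM24 G D) {c e : G} (hc : c ∈ D) (he : e ∈ Dd D c) :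
    ∃ (Y : Type u) (_ : Group Y) (_ : Finite Y) (E : Set Y) (ρ : Subgroup.centralizer ({c, e} : Set G) →* Y),
      PairData D c e E ρ := by
  obtain ⟨d₀, c₀, -, -, hB, h23⟩ := bottom24 hD hprim h24
  have hp23 := prim23 hD hprim hB h23
  have L23 := local23 hB.img_group hp23 h23
  have S24 := stage_of_base hD hprim h24.1 L23 hB rfl
  have L24 := local24 hD hprim h24
  have hself24 := mem_Hd24 hD hprim h24
  obtain ⟨d₁, c₁, -, -, hB', h22, -⟩ := bottom23 hB.img_group h23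
  have hp22 := prim22 hB.img_group hp23 hB' h22
  have L22 := local22 hB'.img_group hp22 h22
  have S23 := stage_of_base hB.img_group hp23 h23.1 L22 hB' rfl
  have hself23 := fun a ha => ((main23 hB.img_group hp23 h23).2 a ha).1
  obtain ⟨π₁, M₁⟩ := S24.base c hc
  set e₂ := phi π₁ e with he₂
  have e₂E := M₁.mem he
  obtain ⟨π₂, M₂⟩ := S23.base e₂ e₂E
  set C := Subgroup.centralizer ({c, e} : Set G) with hC
  have hle : C ≤ Hd D c := fun g hg => mem_Hd_of_commute S24 L24 hself24 hc (mem_pair.1 hg).1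
  let ρ₁ := π₁.comp (Subgroup.inclusion hle)
  let ρ₁' := ρ₁.codRestrict (Hd _ e₂) fun x =>
    mem_Hd_of_commute S23 L23 hself23 e₂E (peel_commute M₁ he (mem_pair.1 x.2).2)
  let ρ := π₂.comp ρ₁'
  have cce : Commute c e := he.2.2
  set P := Dd D c ∩ Dd D e with hP
  have hPimg : ∀ y (hy : y ∈ P), phi π₁ y ∈ Dd _ e₂ := fun y hy => (M₁.mem_Dd he hy.1).2 hy.2
  have hρ : ∀ y ∈ P, pm ρ y = phi π₂ (phi π₁ y) := fun y hy => by
    have e1 : ρ₁ ⟨y, mem_pair_Dd hy⟩ = phi π₁ y :=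
      (phi_of_mem π₁ (x := Subgroup.inclusion hle ⟨y, mem_pair_Dd hy⟩) hy.1).symm
    rw [show pm ρ y = ρ ⟨y, mem_pair_Dd hy⟩ from pm_of_mem ρ ⟨y, mem_pair_Dd hy⟩, ← e1]
    exact (phi_of_mem π₂ (x := ρ₁' ⟨y, mem_pair_Dd hy⟩) (show ρ₁ _ ∈ _ from e1.symm ▸ hPimg y hy)).symm
  refine ⟨_, inferInstance, inferInstance, imgSet _ d₁ (QuotientGroup.mk' (Subgroup.center _)), ρ,
    hB'.img_group, hp22, h22, fun t => ?_, fun x => ⟨fun hx => ?_, fun hx => ?_⟩, fun y hy => ?_,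
    fun y hy w hw h => ?_, fun t ht => ?_, fun y hy w hw => ?_⟩
  · obtain ⟨u₂, rfl⟩ := M₂.base.surj t
    obtain ⟨u₁, hu₁⟩ := M₁.base.surj u₂
    have h1 : Commute (u₁ : G) e := (peel_commute_iff M₁ he).1 (hu₁ ▸ commute_of_mem_Hd u₂.2)
    exact ⟨⟨u₁, mem_pair.2 ⟨commute_of_mem_Hd u₁.2, h1⟩⟩, congrArg π₂ (Subtype.ext hu₁)⟩
  · rcases peel_kernel S23 M₂ (x := ρ₁' x) hx with h | h
    · exact Or.inl (peel_kernel S24 M₁ (x := Subgroup.inclusion hle x) h)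
    · exact Or.inr (peel_kernel_phi S24 M₁ he (x := Subgroup.inclusion hle x) h)
  · have mc : c ∈ C := mem_pair.2 ⟨Commute.refl _, cce⟩
    have me : e ∈ C := mem_pair.2 ⟨cce.symm, Commute.refl _⟩
    have zc : ρ ⟨c, mc⟩ = 1 := by
      have : ρ₁' ⟨c, mc⟩ = 1 := Subtype.ext (peel_self M₁ h23.1 (hself24 c hc))
      show π₂ (ρ₁' ⟨c, mc⟩) = 1
      rw [this, map_one]
    have ze : ρ ⟨e, me⟩ = 1 := by
      have e1 : ρ₁ ⟨e, me⟩ = e₂ := (phi_of_mem π₁ (x := Subgroup.inclusion hle ⟨e, me⟩) he).symm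
      show π₂ (ρ₁' ⟨e, me⟩) = 1
      rw [show ρ₁' ⟨e, me⟩ = ⟨e₂, hself23 e₂ e₂E⟩ from Subtype.ext e1]
      exact peel_self M₂ h22.1 (hself23 e₂ e₂E)
    rcases hx with (h | h) | h | h
    · rw [show x = 1 from Subtype.ext h, map_one]
    · rw [show x = ⟨c, mc⟩ from Subtype.ext h, zc]
    · rw [show x = ⟨e, me⟩ from Subtype.ext h, ze]
    · rw [show x = ⟨c, mc⟩ * ⟨e, me⟩ from Subtype.ext h, map_mul, zc, ze, one_mul]
  · rw [hρ y hy]; exact M₂.mem (hPimg y hy)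
  · rw [hρ y hy, hρ w hw] at h
    exact M₁.inj hy.1 hw.1 (M₂.inj (hPimg y hy) (hPimg w hw) h)
  · obtain ⟨u, hu, rfl⟩ := M₂.onto ht
    obtain ⟨y, hy, rfl⟩ := M₁.onto hu.1
    have hyP : y ∈ P := ⟨hy, (M₁.mem_Dd he hy).1 hu⟩
    exact ⟨y, hyP, hρ y hyP⟩
  · rw [hρ y hy, hρ w hw, M₂.comm (hPimg y hy) (hPimg w hw), M₁.comm hy.1 hw.1]

namespace PairData

variable {c e : G} {Y : Type u} [Group Y] [Finite Y] {E : Set Y} {ρ : Subgroup.centralizer ({c, e} : Set G) →* Y}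
  (P : PairData D c e E ρ)
include P

omit [Finite G] in
theorem mem_Dd {y w : G} (hy : y ∈ Dd D c ∩ Dd D e) (hw : w ∈ Dd D c ∩ Dd D e) :
    pm ρ w ∈ Dd E (pm ρ y) ↔ w ∈ Dd D y :=
  ⟨fun h => ⟨hw.1.1, fun k => h.2.1 (by rw [k]), (P.comm y hy w hw).1 h.2.2⟩,
    fun h => ⟨P.mem w hw, fun k => h.2.1 (P.inj w hw y hy k), (P.comm y hy w hw).2 h.2.2⟩⟩

/-- The cores at a member are central. -/
theorem cores : ∃ d₀ ∈ E,
    Cfsg.pCore 3 ↥(Subgroup.closure {y : Y | y ∈ E ∧ y ≠ d₀ ∧ Commute d₀ y}) ≤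
      Subgroup.center ↥(Subgroup.closure {y : Y | y ∈ E ∧ y ≠ d₀ ∧ Commute d₀ y}) ∧
    Cfsg.pCore 2 ↥(Subgroup.closure {y : Y | y ∈ E ∧ y ≠ d₀ ∧ Commute d₀ y}) ≤
      Subgroup.center ↥(Subgroup.closure {y : Y | y ∈ E ∧ y ≠ d₀ ∧ Commute d₀ y}) := by
  obtain ⟨-, hq⟩ := main22 P.group P.prim P.m22
  obtain ⟨a, ha⟩ : E.Nonempty :=
    (Set.ncard_pos (Set.toFinite _)).1 (by rw [(local22 P.group P.prim P.m22).card]; norm_num)
  have key : ∀ p : ℕ, p.Prime → Cfsg.pCore p (Hd E a) ≤ Subgroup.center (Hd E a) := fun p hp => by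
    haveI := Fact.mk hp
    rcases CfsgLib.Components.quasisimple_normal_eq_top_or_le_center (hq a ha).2.1 (Cfsg.pCore p (Hd E a)) with k | k
    · exfalso
      refine CfsgLib.Components.quasisimple_not_isSolvable (hq a ha).2.1 ?_
      have hP : IsPGroup p (Cfsg.pCore p (Hd E a)) := CfsgLib.PCore.pCore_isPGroup
      rw [k] at hP
      haveI := (hP.of_equiv Subgroup.topEquiv).isNilpotent
      infer_instance
    · exact k
  exact ⟨a, ha, key 3 Nat.prime_three, key 2 Nat.prime_two⟩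

theorem exists_core {a b : G} (ha : a ∈ Dd D c ∩ Dd D e) (hb : b ∈ Dd D c ∩ Dd D e) (hab : b ∈ Dd D a) :
    ∃ (F : Type) (_ : Field F) (_ : Fintype F)
      (θ : Subgroup.centralizer ({pm ρ a, pm ρ b} : Set Y) →* Cfsg.PSU 4 F 2),
      PairCore.IsPairCore E (pm ρ a) (pm ρ b) F θ := by
  obtain ⟨d₀, hd₀, h3, h2⟩ := P.cores
  have h := (P.mem_Dd ha hb).2 hab
  exact PairCore.exists_pairCore P.group P.prim d₀ hd₀ h3 h2 P.m22 _ _ (P.mem a ha) h.1 (Ne.symm h.2.1) h.2.2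

end PairData

end CfsgLib.ThreeTrans.QuadFrame
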