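import Mathlib
import Cfsg.Agent.Lib.ThreeTrans.QuadFrame.Basic
import Cfsg.Agent.Lib.ThreeTrans.QuadFrame.Count
import Cfsg.Agent.Lib.ThreeTrans.QuadFrame.PairMap
import Cfsg.Agent.Lib.ThreeTrans.Tower.Bases
import Cfsg.Agent.Lib.ThreeTrans.Tower.RestHex

/-! The graph on the frames: 45 commute with one, 12 with two commuting ones, 18 with two others. -/

set_option autoImplicit false

namespace CfsgLib.ThreeTrans.QuadFrame

open CfsgLib.ThreeTrans CfsgLib.ThreeTrans.Tower CfsgLib.ThreeTrans.TypeTop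

universe u

variable {G : Type u} [Group G] {D : Set G} {z : G}

/-- The members outside four commuting with them. -/
def nb (D : Set G) (a b c e : G) : Set G := Dd D a ∩ (Dd D b ∩ (Dd D c ∩ Dd D e))

theorem mem_nb_pair {a b c e y : G} (hy : y ∈ nb D a b c e) : y ∈ Dd D c ∩ Dd D e := hy.2.2

/-- The frames commuting with one frame. -/
def nbF (F : Fr D z) : Set (Fr D z) := {F' | F' ≠ F ∧ Perp F F'}

/-- The members of a set of frames. -/
def members (𝓕 : Set (Fr D z)) : Set G := {y | ∃ F ∈ 𝓕, y ∈ F.1}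

variable [Finite G]

theorem ncard_members (H : Hyp D) (𝓕 : Set (Fr D z)) : (members 𝓕).ncard = 4 * 𝓕.ncard := by
  classical
  have hfin : 𝓕.Finite := Set.toFinite _
  have e : members 𝓕 = ↑(hfin.toFinset.biUnion fun F => (Set.toFinite F.1).toFinset) := by
    ext y
    simp [members]
  rw [e, Set.ncard_coe_finset, Finset.card_biUnion fun F _ F' _ hne => ?_,
    Finset.sum_congr rfl (g := fun _ => 4) fun F _ => by
      rw [← Set.ncard_eq_toFinset_card, ncard_frame F],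
    Finset.sum_const, smul_eq_mul, ← Set.ncard_eq_toFinset_card, mul_comm]
  exact Finset.disjoint_left.2 fun y hy hy' =>
    hne (frame_eq H ((Set.toFinite _).mem_toFinset.1 hy) ((Set.toFinite _).mem_toFinset.1 hy'))

omit [Finite G] in
theorem Quad.pair {a b c e : G} (q : Quad D z a b c e) : a ∈ Dd D c ∩ Dd D e ∧ b ∈ Dd D c ∩ Dd D e :=
  ⟨⟨Dd_symm q.ma q.hc.1, Dd_symm q.ma q.he.1⟩, Dd_symm q.mb q.hc.2, Dd_symm q.mb q.he.2.1⟩

/-- Everything seen at a frame in the group of type M(22) at two of its members. -/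
structure AtQuad {a b c e : G} (q : Quad D z a b c e) {Y : Type u} [Group Y] [Finite Y] (E : Set Y)
    (ρ : Subgroup.centralizer ({c, e} : Set G) →* Y) : Prop where
  data : PairData D c e E ρ
  line : ∀ y ∈ nb D a b c e, ∃ f g h, Quad D z y f g h ∧ f ∈ nb D a b c e ∧ g ∈ nb D a b c e ∧ h ∈ nb D a b c e ∧
    ∀ t ∈ restHex E (pm ρ a) (pm ρ b) (pm ρ y), t = pm ρ f ∨ t = pm ρ g ∨ t = pm ρ h
  card : (nb D a b c e).ncard = 180
  lam : ∀ y ∈ nb D a b c e, (nb D a b c e ∩ Dd D y).ncard = 51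

theorem exists_atQuad (H : Hyp D) {a b c e : G} (q : Quad D z a b c e) :
    ∃ (Y : Type u) (_ : Group Y) (_ : Finite Y) (E : Set Y) (ρ : Subgroup.centralizer ({c, e} : Set G) →* Y),
      AtQuad q E ρ := by
  classical
  obtain ⟨Y, _, _, E, ρ, P⟩ := exists_pairData H.group H.prim H.m24 q.mc q.he.2.2
  refine ⟨Y, inferInstance, inferInstance, E, ρ, ?_⟩
  obtain ⟨F, _, _, K⟩ := exists_data22 P.group P.prim P.m22
  obtain ⟨E₃, S, -⟩ := K.stage
  obtain ⟨χ, hχ⟩ := exists_parityHom24 H.group H.prim H.m24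
  obtain ⟨qa, qb⟩ := q.pair
  set N := nb D a b c e with hN
  have hab : pm ρ b ∈ Dd E (pm ρ a) := (P.mem_Dd qa qb).2 q.hb
  have himg : pm ρ '' N = Dd E (pm ρ a) ∩ Dd E (pm ρ b) := by
    ext t
    constructor
    · rintro ⟨y, hy, rfl⟩
      exact ⟨(P.mem_Dd qa hy.2.2).2 hy.1, (P.mem_Dd qb hy.2.2).2 hy.2.1⟩
    · rintro ⟨ta, tb⟩
      obtain ⟨y, hy, rfl⟩ := P.onto t ta.1
      exact ⟨y, ⟨(P.mem_Dd qa hy).1 ta, (P.mem_Dd qb hy).1 tb, hy⟩, rfl⟩
  have hinj : Set.InjOn (pm ρ) N := fun y hy w hw k => P.inj y hy.2.2 w hw.2.2 k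
  refine ⟨P, fun y hy => ?_, ?_, fun y hy => ?_⟩
  · have hy' := hy.2.2
    have hay : pm ρ y ∈ Dd E (pm ρ a) := (P.mem_Dd qa hy').2 hy.1
    have hby : pm ρ y ∈ Dd E (pm ρ b) := (P.mem_Dd qb hy').2 hy.2.1
    obtain ⟨f', g', h', hL, hprod, hset, -⟩ := K.hex_spec (P.mem a qa) hab.1 hay.1
      (Ne.symm hab.2.1) (Ne.symm hay.2.1) (Ne.symm hby.2.1) hab.2.2 hay.2.2 hby.2.2
    have hm : ∀ t ∈ [f', g', h'], t ∈ Dd E (pm ρ a) ∩ Dd E (pm ρ b) ∧ t ∈ Dd E (pm ρ y) := by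
      intro t ht
      have hnd := hL.nodup
      have ht5 : t ∈ [pm ρ b, pm ρ y, f', g', h'] := List.mem_cons_of_mem _ (List.mem_cons_of_mem _ ht)
      simp only [List.nodup_cons, List.mem_cons, List.not_mem_nil, or_false, not_or] at hnd ht
      refine ⟨⟨hL.mem t ht5, (hL.mem t ht5).1, ?_, hL.comm _ (by simp) t ht5⟩,
        (hL.mem t ht5).1, ?_, hL.comm _ (by simp) t ht5⟩
      · rcases ht with rfl | rfl | rfl
        exacts [Ne.symm hnd.1.2.1, Ne.symm hnd.1.2.2.1, Ne.symm hnd.1.2.2.2]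
      · rcases ht with rfl | rfl | rfl
        exacts [Ne.symm hnd.2.1.1, Ne.symm hnd.2.1.2.1, Ne.symm hnd.2.1.2.2]
    have hnd := hL.nodup
    simp only [List.nodup_cons, List.mem_cons, List.not_mem_nil, or_false, not_or] at hnd
    obtain ⟨f, hf, rfl⟩ := himg.symm ▸ (hm f' (by simp)).1
    obtain ⟨g, hg, rfl⟩ := himg.symm ▸ (hm g' (by simp)).1
    obtain ⟨h, hh, rfl⟩ := himg.symm ▸ (hm h' (by simp)).1
    have yf := (P.mem_Dd hy' hf.2.2).1 (hm _ (by simp)).2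
    have yg := (P.mem_Dd hy' hg.2.2).1 (hm _ (by simp)).2
    have yh := (P.mem_Dd hy' hh.2.2).1 (hm _ (by simp)).2
    have fg : g ∈ Dd D f := ⟨hg.1.1, fun k => hnd.2.2.1.1 (by rw [k]),
      (P.comm f hf.2.2 g hg.2.2).1 (hL.comm _ (by simp) _ (by simp))⟩
    have fh : h ∈ Dd D f := ⟨hh.1.1, fun k => hnd.2.2.1.2 (by rw [k]),
      (P.comm f hf.2.2 h hh.2.2).1 (hL.comm _ (by simp) _ (by simp))⟩
    have gh : h ∈ Dd D g := ⟨hh.1.1, fun k => hnd.2.2.2.1 (by rw [k]),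
      (P.comm g hg.2.2 h hh.2.2).1 (hL.comm _ (by simp) _ (by simp))⟩
    -- the product
    let inC : ∀ {x : G}, x ∈ Dd D c ∩ Dd D e → Subgroup.centralizer ({c, e} : Set G) :=
      fun {x} hx => ⟨x, mem_pair_Dd hx⟩
    have hw : ρ (inC qa * inC qb * inC hy' * inC hf.2.2 * inC hg.2.2 * inC hh.2.2) = 1 := by
      simp only [map_mul]
      have e3 : ∀ {x : G} (hx : x ∈ Dd D c ∩ Dd D e), ρ (inC hx) = pm ρ x := fun hx => (pm_of_mem ρ (inC hx)).symm
      rw [e3 qa, e3 qb, e3 hy', e3 hf.2.2, e3 hg.2.2, e3 hh.2.2]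
      exact hprod
    set p := y * (f * (g * h)) with hp
    have hsix : a * (b * p) = a * b * y * f * g * h := by simp only [hp, mul_assoc]
    have hce : a * (b * p) = c * e := by
      have hwv : ((inC qa * inC qb * inC hy' * inC hf.2.2 * inC hg.2.2 * inC hh.2.2 :
          Subgroup.centralizer ({c, e} : Set G)) : G) = a * (b * p) := hsix.symm
      have hev : χ (a * (b * p)) = 1 := by
        simp only [hp, map_mul, hχ _ q.ma, hχ _ q.mb, hχ _ hy.1.1, hχ _ hf.1.1, hχ _ hg.1.1, hχ _ hh.1.1]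
        decide
      have hodd : (Multiplicative.ofAdd (1 : ZMod 2)) ≠ 1 := by decide
      rcases (P.kernel _).1 hw with (k | k) | k | k <;> rw [hwv] at k
      · exfalso
        refine H.rel 6 (by norm_num) (by norm_num) [a, b, y, f, g, h] ?_ rfl ?_ ?_ ?_
        · simp [q.nab, Ne.symm hy.1.2.1, Ne.symm hy.2.1.2.1, Ne.symm hf.1.2.1, Ne.symm hf.2.1.2.1,
            Ne.symm hg.1.2.1, Ne.symm hg.2.1.2.1, Ne.symm hh.1.2.1, Ne.symm hh.2.1.2.1, Ne.symm yf.2.1,
            Ne.symm yg.2.1, Ne.symm yh.2.1, Ne.symm fg.2.1, Ne.symm fh.2.1, Ne.symm gh.2.1]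
        · simp [q.ma, q.mb, hy.1.1, hf.1.1, hg.1.1, hh.1.1]
        · simp [q.cab, q.cab.symm, hy.1.2.2, hy.1.2.2.symm, hy.2.1.2.2, hy.2.1.2.2.symm, hf.1.2.2, hf.1.2.2.symm,
            hf.2.1.2.2, hf.2.1.2.2.symm, hg.1.2.2, hg.1.2.2.symm, hg.2.1.2.2, hg.2.1.2.2.symm, hh.1.2.2,
            hh.1.2.2.symm, hh.2.1.2.2, hh.2.1.2.2.symm, yf.2.2, yf.2.2.symm, yg.2.2, yg.2.2.symm, yh.2.2,
            yh.2.2.symm, fg.2.2, fg.2.2.symm, fh.2.2, fh.2.2.symm, gh.2.2, gh.2.2.symm, Commute.refl]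
        · simpa [hp] using k
      · rw [k, hχ c q.mc] at hev; exact absurd hev hodd
      · rw [k, hχ e q.me] at hev; exact absurd hev hodd
      · exact k
    have hquad : Quad D z y f g h := by
      refine ⟨hy.1.1, yf, ⟨yg, fg⟩, ⟨yh, fh, gh⟩, ?_⟩
      show p = z
      have e2 : b * (a * (a * (b * p))) = p := by
        rw [mul_self_mul H.set q.ma, mul_self_mul H.set q.mb]
      rw [← e2, hce, ← q.prod, ← mul_assoc, ← q.cab.eq, mul_assoc]
    refine ⟨f, g, h, hquad, hf, hg, hh, fun t ht => ?_⟩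
    have htx : t ∈ hex E (pm ρ a) (pm ρ b) (pm ρ y) := ⟨ht.1, ht.2.2.2.2⟩
    rw [hset] at htx
    simp only [Set.mem_ofPred_eq, List.mem_cons, List.not_mem_nil, or_false] at htx
    exact ((htx.resolve_left ht.2.1).resolve_left ht.2.2.1).resolve_left ht.2.2.2.1
  · rw [← hinj.ncard_image, himg]
    exact K.loc.lam _ (P.mem a qa) _ hab
  · have hay : pm ρ y ∈ Dd E (pm ρ a) := (P.mem_Dd qa hy.2.2).2 hy.1
    have hby : pm ρ y ∈ Dd E (pm ρ b) := (P.mem_Dd qb hy.2.2).2 hy.2.1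
    obtain ⟨π, M⟩ := S.base _ (P.mem a qa)
    rw [← (hinj.mono Set.inter_subset_left).ncard_image]
    have e2 : pm ρ '' (N ∩ Dd D y) = Dd E (pm ρ a) ∩ (Dd E (pm ρ b) ∩ Dd E (pm ρ y)) := by
      rw [← Set.inter_assoc, ← himg]
      ext t
      constructor
      · rintro ⟨w, ⟨hw, hwy⟩, rfl⟩
        exact ⟨⟨w, hw, rfl⟩, (P.mem_Dd hy.2.2 hw.2.2).2 hwy⟩
      · rintro ⟨⟨w, hw, rfl⟩, hwy⟩
        exact ⟨w, ⟨hw, (P.mem_Dd hy.2.2 hw.2.2).1 hwy⟩, rfl⟩
    rw [e2, M.card_two hab hay]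
    exact S.loc.lam _ (M.mem hab) _ ((M.mem_Dd hab hay).2 hby)

/-- Members commuting with three of a frame and a member far from it. -/
theorem card_far (H : Hyp D) {a b c f : G} (ha : a ∈ D) (hb : b ∈ Dd D a) (hc : c ∈ Dd D a ∩ Dd D b) (hf : f ∈ D)
    (haf : ¬ Commute a f) (hbf : ¬ Commute b f) (hcf : ¬ Commute c f) :
    (Dd D a ∩ Dd D f ∩ Dd D b ∩ Dd D c).ncard = 72 := by
  obtain ⟨d₀, c₀, -, -, hB, h23⟩ := bottom24 H.group H.prim H.m24
  have hp23 := prim23 H.group H.prim hB h23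
  have L23 := local23 hB.img_group hp23 h23
  have S24 := stage_of_base H.group H.prim H.m24.1 L23 hB rfl
  obtain ⟨d₁, c₁, -, -, hB', h22, -⟩ := bottom23 hB.img_group h23
  have L22 := local22 hB'.img_group (prim22 hB.img_group hp23 hB' h22) h22
  have S23 := stage_of_base hB.img_group hp23 h23.1 L22 hB' rfl
  exact count_four S24 S23 (t := 360) (i := 63) (c := 72)
    (fun a ha b hb f hf haf hbf => count_three S24 (t := 3240) (c := 360) (local24 H.group H.prim H.m24).mu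
      (by norm_num) (by norm_num) ha hb hf haf hbf)
    (fun a ha b hb f hf haf hbf => count_three S23 (t := 351) (c := 63) L23.mu
      (by norm_num) (by norm_num) ha hb hf haf hbf)
    (by norm_num) (by norm_num) ha hb hc hf haf hbf hcf

section
variable (H : Hyp D)
include H

theorem exists_frame {a b c e y : G} (q : Quad D z a b c e) (hy : y ∈ nb D a b c e) :
    ∃ F : Fr D z, y ∈ F.1 ∧ F ∈ nbF q.frame := by
  obtain ⟨Y, _, _, E, ρ, A⟩ := exists_atQuad H q
  obtain ⟨f, g, h, q', -⟩ := A.line y hy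
  refine ⟨q'.frame, q'.mem_frame, fun k => ?_, perp_of_comm H q.mem_frame q'.mem_frame hy.1.2.2⟩
  have hya : y ∈ ({a, b, c, e} : Set G) := by
    have h := q'.mem_frame
    rw [k] at h
    exact h
  rcases hya with rfl | rfl | rfl | rfl
  exacts [hy.1.2.1 rfl, hy.2.1.2.1 rfl, hy.2.2.1.2.1 rfl, hy.2.2.2.2.1 rfl]

theorem mem_nb_of_frame {a b c e : G} (q : Quad D z a b c e) {F : Fr D z} (hF : F ∈ nbF q.frame) {y : G}
    (hy : y ∈ F.1) : y ∈ nb D a b c e := by
  have key : ∀ x ∈ ({a, b, c, e} : Set G), y ∈ Dd D x := fun x hx =>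
    ⟨mem_D hy, fun k => hF.1 (frame_eq H hy (k ▸ hx : y ∈ q.frame.1)), hF.2 x hx y hy⟩
  exact ⟨key a (by simp), key b (by simp), key c (by simp), key e (by simp)⟩

theorem members_nbF {a b c e : G} (q : Quad D z a b c e) : members (nbF q.frame) = nb D a b c e := by
  ext y
  exact ⟨fun ⟨F, hF, hy⟩ => mem_nb_of_frame H q hF hy,
    fun hy => let ⟨F, hy', hF⟩ := exists_frame H q hy; ⟨F, hF, hy'⟩⟩

theorem deg45 (F : Fr D z) : (nbF F).ncard = 45 := by
  obtain ⟨a, b, c, e, q, hF⟩ := F.2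
  obtain rfl : F = q.frame := Subtype.ext hF
  obtain ⟨Y, _, _, E, ρ, A⟩ := exists_atQuad H q
  have h := ncard_members H (nbF q.frame)
  rw [members_nbF H q, A.card] at h
  omega

theorem lam12 {F F₁ : Fr D z} (h : F₁ ∈ nbF F) : (nbF F ∩ nbF F₁).ncard = 12 := by
  obtain ⟨a, b, c, e, q, hF⟩ := F.2
  obtain rfl : F = q.frame := Subtype.ext hF
  obtain ⟨Y, _, _, E, ρ, A⟩ := exists_atQuad H q
  obtain ⟨y, hy⟩ := nonempty F₁
  have hyN := mem_nb_of_frame H q h hy
  have key : nb D a b c e ∩ Dd D y = members (nbF q.frame ∩ nbF F₁) ∪ (F₁.1 \ {y}) := by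
    ext w
    constructor
    · rintro ⟨hw, hwy⟩
      obtain ⟨F₂, hwF, hF₂⟩ := exists_frame H q hw
      by_cases e' : F₂ = F₁
      · exact Or.inr ⟨e' ▸ hwF, hwy.2.1⟩
      · exact Or.inl ⟨F₂, ⟨hF₂, e', (perp_of_comm H hy hwF hwy.2.2)⟩, hwF⟩
    · rintro (⟨F₂, ⟨hF₂, hne, hp⟩, hw⟩ | ⟨hw, hwy⟩)
      · exact ⟨mem_nb_of_frame H q hF₂ hw, mem_D hw, fun k => hne (frame_eq H hw (k ▸ hy)), hp y hy w hw⟩
      · exact ⟨mem_nb_of_frame H q h hw, mem_D hw, hwy, comm_same hy hw⟩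
  have hdis : Disjoint (members (nbF q.frame ∩ nbF F₁)) (F₁.1 \ {y}) := by
    refine Set.disjoint_left.2 ?_
    rintro w ⟨F₂, ⟨-, hne, -⟩, hw⟩ ⟨hw', -⟩
    exact hne (frame_eq H hw hw')
  have h1 := A.lam y hyN
  rw [key, Set.ncard_union_eq hdis, ncard_members H, Set.ncard_diff_singleton_of_mem hy, ncard_frame] at h1
  omega

theorem mu18 {F F' : Fr D z} (h : ¬ Perp F F') : (nbF F ∩ nbF F').ncard = 18 := by
  obtain ⟨a, b, c, e, q, hF⟩ := F.2
  obtain rfl : F = q.frame := Subtype.ext hF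
  obtain ⟨f, hf⟩ := nonempty F'
  have hfD := mem_D hf
  have naf := not_comm H h (y := a) (by simp [Quad.frame]) hf
  have nbf := not_comm H h (y := b) (by simp [Quad.frame]) hf
  have ncf := not_comm H h (y := c) (by simp [Quad.frame]) hf
  have nef := not_comm H h (y := e) (by simp [Quad.frame]) hf
  have key : members (nbF q.frame ∩ nbF F') = Dd D a ∩ Dd D f ∩ Dd D b ∩ Dd D c := by
    ext y
    constructor
    · rintro ⟨F₂, ⟨hF₂, hne, hp⟩, hy⟩
      have hN := mem_nb_of_frame H q hF₂ hy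
      exact ⟨⟨⟨hN.1, mem_D hy, fun k => hne (frame_eq H hy (k ▸ hf)), hp f hf y hy⟩, hN.2.1⟩, hN.2.2.1⟩
    · rintro ⟨⟨⟨ya, yf⟩, yb⟩, yc⟩
      have hye : Commute y e := by
        by_contra hn
        have hs := H.set
        have e1 : z * y * z⁻¹ = e * y * e := by
          have hz : z = a * b * c * e := by rw [← q.prod]; simp only [mul_assoc]
          have h3 : Commute (a * b * c) (e * y * e) := by
            refine Commute.mul_left (Commute.mul_left ?_ ?_) ?_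
            · exact ((q.cae).mul_right ya.2.2).mul_right q.cae
            · exact ((q.cbe).mul_right yb.2.2).mul_right q.cbe
            · exact ((q.cce).mul_right yc.2.2).mul_right q.cce
          rw [hz, show a * b * c * e * y * (a * b * c * e)⁻¹ = a * b * c * (e * y * e⁻¹) * (a * b * c)⁻¹ by group,
            inv_eq hs q.me, h3.eq, mul_inv_cancel_right]
        have hfz : Commute f z := comm_z hf
        have h2 : Commute f (e * y * e) := e1 ▸ (hfz.mul_right yf.2.2).mul_right hfz.inv_right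
        have e3 : e = y * (e * y * e) * y := by
          rw [← braid hs ya.1 q.me hn]
          simp [mul_assoc, mul_self hs ya.1, mul_self_mul hs ya.1]
        have h5 : Commute f (y * (e * y * e) * y) := (yf.2.2.mul_right h2).mul_right yf.2.2
        rw [← e3] at h5
        exact nef h5.symm
      have hN : y ∈ nb D a b c e := ⟨ya, yb, yc, ya.1, fun k => nef (k ▸ yf.2.2.symm), hye.symm⟩
      obtain ⟨F₂, hy, hF₂⟩ := exists_frame H q hN
      refine ⟨F₂, ⟨hF₂, fun k => ?_, perp_of_comm H hf hy yf.2.2⟩, hy⟩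
      exact h (k ▸ hF₂.2)
  have h1 := ncard_members H (nbF q.frame ∩ nbF F')
  rw [key, card_far H q.ma q.hb q.hc hfD naf nbf ncf] at h1
  omega

end

end CfsgLib.ThreeTrans.QuadFrame
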