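import Mathlib
import Cfsg.Agent.Lib.ThreeTrans.Classif.Final
import Cfsg.Agent.Lib.ThreeTrans.Classif.DisconnectedOrth
import Cfsg.Agent.Lib.ThreeTrans.Classif.SplitCounts
import Cfsg.Agent.Lib.ThreeTrans.Classif.UnitNumbers
import Cfsg.Agent.Lib.H82.UFourThreeNorm
import Cfsg.Agent.Lib.AutPSU.Card

/-! A good class of 126 members: the derived group is `PSU(4,9)`. -/

set_option autoImplicit false

namespace CfsgLib.ThreeTrans.QuadFrame

open CfsgLib.ThreeTrans CfsgLib.ThreeTrans.Classif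

universe u

/-- All weights one, except the last. -/
def lastWt (n : ℕ) (d : ZMod 3) : Fin n → ZMod 3 := fun i => if i.val + 1 = n then d else 1

theorem six_det : ∀ d c : ZMod 3, d ≠ 0 → c ≠ 0 → sphereCount 6 (lastWt 6 d) c = 252 → d = 1 := by
  decide +kernel

theorem seven_many : ∀ d c : ZMod 3, d ≠ 0 → c ≠ 0 → 252 < sphereCount 7 (lastWt 7 d) c := by
  decide +kernel

theorem sphere_many {d c : ZMod 3} (hd : d ≠ 0) (hc : c ≠ 0) :
    ∀ n, 7 ≤ n → 252 < sphereCount n (lastWt n d) c := by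
  intro n hn
  induction n, hn using Nat.le_induction with
  | base => exact seven_many d c hd hc
  | succ n hn ih =>
    refine lt_of_lt_of_le ih ?_
    rw [sphereCount]
    refine le_trans (le_of_eq ?_) (Finset.single_le_sum (fun t _ => Nat.zero_le _) (Finset.mem_univ (0 : ZMod 3)))
    rw [mul_zero, mul_zero, sub_zero]
    congr 1
    funext i
    simp [lastWt]

variable {G : Type u} [Group G] [Finite G] {D : Set G}

theorem choose_two_ne (n : ℕ) : n.choose 2 ≠ 126 := by
  intro h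
  rcases le_or_gt n 16 with hn | hn
  · have := Nat.choose_le_choose 2 hn
    rw [h] at this
    norm_num [Nat.choose_two_right] at this
  · have := Nat.choose_le_choose 2 (show 17 ≤ n from hn)
    rw [h] at this
    norm_num [Nat.choose_two_right] at this

theorem not_sym (h : D.ncard = 126) {n : ℕ} : ¬ KindSym D n := fun hK => by
  obtain ⟨ψ, -, hc, -⟩ := sym_points hK
  exact choose_two_ne n (hc.symm.trans h)

theorem not_sp (h : D.ncard = 126) {m : ℕ} : ¬ KindSp D m := fun hK => by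
  obtain ⟨ψ, hψ⟩ := KindPts.sp_points hK
  have h' := Symp.ncard_points hψ
  rw [h] at h'
  rcases m with _ | m
  · simp at h'
  · rw [pow_succ] at h'; omega

theorem not_psu (h : D.ncard = 126) {n : ℕ} (hn : 4 ≤ n) : ¬ KindPSU D n := fun hK => by
  obtain ⟨F, _, _, ψ, hψ⟩ := psu_points hn hK
  obtain ⟨k, rfl⟩ : ∃ k, n = k + 1 := ⟨n - 1, by omega⟩
  have h' := hψ.card_points (k := k) (Module.finrank_fin_fun F)
  rw [h] at h'
  rcases (show k = 3 ∨ 4 ≤ k by omega) with rfl | hk
  · norm_num [Nat.even_iff] at h'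
  · have a1 : 2 ^ 4 ≤ 2 ^ k := Nat.pow_le_pow_right (by norm_num) hk
    have a2 : 2 ^ 5 ≤ 2 ^ (k + 1) := Nat.pow_le_pow_right (by norm_num) (by omega)
    have b1 : 31 * 15 ≤ (2 ^ (k + 1) + 1) * (2 ^ k - 1) := Nat.mul_le_mul (by omega) (by omega)
    have b2 : 31 * 15 ≤ (2 ^ (k + 1) - 1) * (2 ^ k + 1) := Nat.mul_le_mul (by omega) (by omega)
    split_ifs at h' <;> omega

theorem ncard_one_add_zero {ι : Type} [Fintype ι] (q : (ι → ZMod 2) → ZMod 2) :
    {v | q v = 1}.ncard + Nat.card {v // q v = 0} = 2 ^ Fintype.card ι := by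
  have e : {v | q v = 1} = {v | q v = 0}ᶜ := by
    ext v
    have key : ∀ x : ZMod 2, x = 1 ↔ ¬ x = 0 := by decide
    exact key (q v)
  have h := Set.ncard_add_ncard_compl {v | q v = 0}
  rw [CfsgLib.ClassicalGroups.natCard_pow, ZMod.card] at h
  rw [e, show Nat.card {v // q v = 0} = {v | q v = 0}.ncard from Nat.card_coe_set_eq _]
  omega

theorem not_oPlus (h : D.ncard = 126) {m : ℕ} (hm : 4 ≤ m) : ¬ KindOPlus D m := fun hK => by
  classical
  rw [KindOPlus, ← CfsgLib.Orth.plusQ_coe (F := ZMod 2) m] at hK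
  obtain ⟨e, he⟩ := hK
  obtain ⟨ψ, hψ⟩ := SmallCases.orth_points (CfsgLib.Orth.plusQ_nondegenerate (F := ZMod 2) m) e he
  have h1 := Set.BijOn.image_eq hψ.bij
  have h2 : {v | (CfsgLib.Orth.plusQ m (ZMod 2)) v = 1}.ncard = 126 := by
    rw [← h1, hψ.bij.injOn.ncard_image, h]
  rw [CfsgLib.Orth.plusQ_coe] at h2
  have h3 := ncard_one_add_zero (Cfsg.quadFormPlus m (ZMod 2))
  have h4 := CfsgLib.ClassicalGroups.card_zero_plus (F := ZMod 2) m
  rw [h2, Fintype.card_sum, Fintype.card_fin] at h3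
  rw [ZMod.card, pow_succ, two_mul m, pow_add] at h4
  rw [pow_add] at h3
  rcases (show m = 4 ∨ 5 ≤ m by omega) with rfl | h5
  · norm_num at h3 h4; omega
  · have a1 : 2 ^ 5 ≤ 2 ^ m := Nat.pow_le_pow_right (by norm_num) h5
    have a2 : 2 ^ 5 * 2 ^ m ≤ 2 ^ m * 2 ^ m := Nat.mul_le_mul_right _ a1
    omega

theorem not_oMinus (h : D.ncard = 126) {m : ℕ} : 2 ≤ m → ¬ KindOMinus D m := fun hm hK => by
  classical
  rw [KindOMinus, ← CfsgLib.Orth.minusQ_coe] at hK
  obtain ⟨e, he⟩ := hK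
  obtain ⟨ψ, hψ⟩ :=
    SmallCases.orth_points (CfsgLib.POmega.minusQ_nondegenerate_any MinusSix.aniso) e he
  have h1 := Set.BijOn.image_eq hψ.bij
  have h2 : {v | (CfsgLib.Orth.minusQ m (ZMod 2) 1 1) v = 1}.ncard = 126 := by
    rw [← h1, hψ.bij.injOn.ncard_image, h]
  rw [CfsgLib.Orth.minusQ_coe] at h2
  have h3 := ncard_one_add_zero (Cfsg.quadFormMinus m (ZMod 2) 1 1)
  have h4 := CfsgLib.ClassicalGroups.card_zero_minus (F := ZMod 2) MinusSix.aniso m
  rw [h2, Fintype.card_sum, Fintype.card_sum, Fintype.card_fin, Fintype.card_fin] at h3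
  rw [ZMod.card, two_mul m, pow_succ, pow_add, pow_add, pow_add] at h4
  rw [pow_add, pow_add] at h3
  rcases (show m = 2 ∨ 3 ≤ m by omega) with rfl | h5
  · norm_num at h3 h4; omega
  · have a1 : 2 ^ 3 ≤ 2 ^ m := Nat.pow_le_pow_right (by norm_num) h5
    have a2 : 2 ^ 3 * 2 ^ m ≤ 2 ^ m * 2 ^ m := Nat.mul_le_mul_right _ a1
    omega

/-- The forms: dimension six and discriminant one. -/
theorem refl_data (h : D.ncard = 126) {n : ℕ} (hn : 6 ≤ n) {Q : QuadraticForm (ZMod 3) (Fin n → ZMod 3)}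
    (hQ : (QuadraticMap.polarBilin Q).Nondegenerate) {c : ZMod 3} (hc : c ≠ 0) (hK : KindRefl D Q c) :
    n = 6 ∧ Cfsg.polarGramDet ⇑Q = 1 := by
  classical
  obtain ⟨ψ, hψ⟩ := KindPts.refl_points Q c (by omega) hQ hc hK
  have h2 : (2 : ZMod 3) ≠ 0 := ReflClass.two_ne
  set x := (CfsgLib.QuadFin.gram ⇑Q).det with hx
  have hx0 : x ≠ 0 := CfsgLib.QuadFin.gram_det_ne_zero _ hQ
  set d := 2 ^ n * x with hd
  have hd0 : d ≠ 0 := mul_ne_zero (pow_ne_zero _ h2) hx0
  let Qd : QuadraticForm (ZMod 3) (Fin n → ZMod 3) := QuadraticMap.weightedSumSquares (ZMod 3) (lastWt n d)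
  have hQd : ∀ v, Qd v = ∑ i, lastWt n d i * (v i * v i) := fun v => by
    simp [Qd, QuadraticMap.weightedSumSquares_apply]
  have hdet : (CfsgLib.QuadFin.gram ⇑Qd).det = 2 ^ n * d := by
    have e : (⇑Qd : (Fin n → ZMod 3) → ZMod 3) = fun v => ∑ i, lastWt n d i * v i ^ 2 :=
      funext fun v => by rw [hQd]; simp only [pow_two]
    rw [e, CfsgLib.QuadFin.gram_diag, Matrix.det_diagonal, Finset.prod_mul_distrib, Finset.prod_const,
      Finset.card_univ, Fintype.card_fin]
    congr 1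
    rw [Finset.prod_eq_single (⟨n - 1, by omega⟩ : Fin n)]
    · simp [lastWt, show n - 1 + 1 = n by omega]
    · intro i _ hi
      have : i.val + 1 ≠ n := fun k => hi (Fin.ext (by simp; omega))
      simp [lastWt, this]
    · simp
  have hQdn : Qd.polarBilin.Nondegenerate := by
    refine (LinearMap.BilinForm.nondegenerate_iff_det_ne_zero (Pi.basisFun (ZMod 3) (Fin n))).2 ?_
    rw [← CfsgLib.QuadFin.gram_eq_toMatrix, hdet]
    exact mul_ne_zero (pow_ne_zero _ h2) hd0
  obtain ⟨g, hg⟩ := (CfsgLib.QuadFin.equiv_iff_isSquare h2 Q Qd hQ hQdn).2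
    ⟨2 ^ n * x, by rw [hdet, hd]; ring⟩
  have hcnt := hψ.two_mul_ncard Set.univ fun _ _ => trivial
  have e : {z // Q z = c ∧ z ∈ (Set.univ : Set (Fin n → ZMod 3))} ≃
      {w : Fin n → ZMod 3 // ∑ i, lastWt n d i * (w i * w i) = c} :=
    g.toEquiv.subtypeEquiv fun z => by rw [← hQd, LinearEquiv.coe_toEquiv, hg]; simp
  rw [Nat.card_congr e, natCard_sphere, show {e | e ∈ D ∧ ψ e ∈ (Set.univ : Set (Fin n → ZMod 3))} = D by simp,
    h] at hcnt
  rcases (show n = 6 ∨ 7 ≤ n by omega) with rfl | h7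
  · refine ⟨rfl, ?_⟩
    have := six_det d c hd0 hc hcnt.symm
    show x = 1
    rw [← this, hd, show (2 : ZMod 3) ^ 6 = 1 by decide, one_mul]
  · have := sphere_many hd0 hc n h7
    omega

/-- A good class of 126 members has derived group `PSU(4,9)`. -/
theorem derived_126 (hG : Classif.Good D) (h : D.ncard = 126) :
    ∃ (K : Type) (_ : Field K) (_ : Fintype K), Fintype.card K = 9 ∧
      Nonempty (↥(commutator G) ≃* Cfsg.PSU 4 K 3) := by
  classical
  rcases classify_all D hG with ⟨n, -, hK⟩ | ⟨m, -, hK⟩ | ⟨n, hn, hK⟩ | (⟨m, hm, hK⟩ | ⟨m, hm, hK⟩) |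
    ⟨n, hn, Q, hQ, c, hc, hK⟩ | h22 | h23 | h24
  · exact (not_sym h hK).elim
  · exact (not_sp h hK).elim
  · exact (not_psu h hn hK).elim
  · exact (not_oPlus h hm hK).elim
  · exact (not_oMinus h hm hK).elim
  · obtain ⟨rfl, hdet⟩ := refl_data h hn hQ hc hK
    obtain ⟨e, -⟩ := hK
    let Rq := ↥(Cfsg.reflectionSubgroup (⇑Q) c) ⧸ Subgroup.center ↥(Cfsg.reflectionSubgroup (⇑Q) c)
    let f₀ : ↥(commutator G) ≃* ↥(commutator Rq) := CfsgLib.FieldPOmega.commEquiv e
    have hz : Subgroup.center ↥(commutator G) = ⊥ := by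
      obtain ⟨h2, h3⟩ := hG.set.hD.cores_of_primitive hG.set.prim hG.set.pair
      obtain ⟨L, hL⟩ := hG.set.hD.exists_component h2 h3
      have hi := hG.set.hD.index_le_two_of_connected hL
        (hG.set.hD.connected_of_primitive hG.set.prim hG.set.pair)
      have hn' : (commutator G).Normal := inferInstance
      have hc' : ((Subgroup.center ↥(commutator G)).map (commutator G).subtype).Normal :=
        inferInstance
      have hab : IsMulCommutative ↥((Subgroup.center ↥(commutator G)).map (commutator G).subtype) := inferInstance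
      have hnil : Group.IsNilpotent ↥((Subgroup.center ↥(commutator G)).map (commutator G).subtype) :=
        @CommGroup.isNilpotent _ { (inferInstance : Group ↥((Subgroup.center ↥(commutator G)).map
          (commutator G).subtype)) with mul_comm := hab.is_comm.comm }
      have hle := CfsgLib.Fitting.le_fitting hc' hnil
      rw [hG.set.hD.fitting_eq_center h2 h3, hG.triv] at hle
      rw [← Subgroup.map_eq_bot_iff_of_injective _ (commutator G).subtype_injective]
      exact le_bot_iff.1 hle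
    obtain ⟨eP⟩ := DisOrth.refl_modCenter hz f₀ hQ le_rfl hc
    rcases DisOrth.even_model (k := 2) hQ rfl with ⟨-, hsq⟩ | ⟨eO⟩
    · exfalso
      rw [hdet] at hsq
      exact absurd hsq (by decide)
    obtain ⟨eO'⟩ := eO
    obtain ⟨e1⟩ := DisOrth.quotient_equiv_of eO'
    haveI : Fact (Nat.Prime 3) := ⟨Nat.prime_three⟩
    let K := GaloisField 3 2
    let _ : Fintype K := Fintype.ofFinite K
    have hK9 : Fintype.card K = 3 ^ 2 := by
      rw [← Nat.card_eq_fintype_card]; exact GaloisField.card 3 2 (by norm_num)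
    obtain ⟨e4⟩ := Cfsg.Agent.S0303.result (K := K) (q := 3) (ZMod.card 3) hK9 (0 : ZMod 3) 1 DisOrth.aniso_three
    rw [CfsgLib.Orth.minusQ_coe] at e1
    exact ⟨K, inferInstance, inferInstance, hK9.trans (by norm_num), ⟨(eP.trans e1).trans e4⟩⟩
  · exfalso
    have := (Tower.local22 hG.group hG.set.prim h22).card
    omega
  · exfalso
    obtain ⟨d, c, -, -, hB, h22, -⟩ := Tower.bottom23 hG.group h23
    have := (Tower.local23 hG.group hG.set.prim h23).card
    omega
  · exfalso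
    have := (Tower.local24 hG.group hG.set.prim h24).card
    omega

end CfsgLib.ThreeTrans.QuadFrame
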