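import Mathlib
import Cfsg.Agent.Lib.ThreeTrans.QuadFrame.Graph
import Cfsg.Agent.Lib.ThreeTrans.QuadFrame.Ident
import Cfsg.Agent.Lib.ThreeTrans.Classif.Counting
import Cfsg.Agent.Lib.ThreeTrans.Classif.Local

/-! The permutations of the frames by their members: a good class of 126 with derived group `PSU(4,9)`, which is
self-centralising among the permutations induced by the centraliser of `z`. -/

set_option autoImplicit false

namespace CfsgLib.ThreeTrans.QuadFrame

open CfsgLib.ThreeTrans CfsgLib.ThreeTrans.Tower CfsgLib.ThreeTrans.Classif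
open CfsgLib.ThreeTrans.LocalSymThree (nbr)

universe u

variable {G : Type u} [Group G] {D : Set G}

/-- The group generated by the permutations by the members. -/
noncomputable def Yg (hc : ConjClosed D) (z : G) : Subgroup (Equiv.Perm (Fr D z)) :=
  Subgroup.closure (Set.range fun F : Fr D z => sig hc F)

/-- Its derived group. -/
noncomputable def Yd (hc : ConjClosed D) (z : G) : Subgroup (Equiv.Perm (Fr D z)) := ⁅Yg hc z, Yg hc z⁆

/-- The class in it. -/
noncomputable def cls (hc : ConjClosed D) (z : G) : Set ↥(Yg hc z) :=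
  {x | (x : Equiv.Perm (Fr D z)) ∈ Set.range fun F : Fr D z => sig hc F}

variable {z : G}

/-- The permutation of a frame in it. -/
noncomputable def cx (hc : ConjClosed D) (F : Fr D z) : ↥(Yg hc z) :=
  ⟨sig hc F, Subgroup.subset_closure ⟨F, rfl⟩⟩

theorem cls_eq (hc : ConjClosed D) : cls hc z = Set.range (cx hc (z := z)) := by
  ext x
  exact ⟨fun ⟨F, hF⟩ => ⟨F, Subtype.ext hF⟩, fun ⟨F, hF⟩ => ⟨F, congrArg Subtype.val hF⟩⟩

theorem cx_mem (hc : ConjClosed D) (F : Fr D z) : cx hc F ∈ cls hc z := ⟨F, rfl⟩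

theorem Yg_le (hc : ConjClosed D) : Yg hc z ≤ (act hc (z := z)).range :=
  (Subgroup.closure_le _).2 fun _ ⟨_, hF⟩ => hF ▸ ⟨_, rfl⟩

theorem Yd_le (hc : ConjClosed D) : Yd hc z ≤ Yg hc z :=
  (Subgroup.commutator_le).2 fun _ hx _ hy => mul_mem (mul_mem (mul_mem hx hy) (inv_mem hx)) (inv_mem hy)

/-- The derived group is induced by commutators of the centraliser of `z`. -/
theorem Yd_le_act (hc : ConjClosed D) :
    Yd hc z ≤ (commutator (Subgroup.centralizer ({z} : Set G))).map (act hc (z := z)) := by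
  rw [commutator_def, Subgroup.map_commutator, ← MonoidHom.range_eq_map]
  exact Subgroup.commutator_mono (Yg_le hc) (Yg_le hc)

section
variable [Finite G] (H : Hyp D)
include H

/-- Frames commuting with the same frames are equal. -/
theorem eq_of_perp {F F' : Fr D z} (h : ∀ X, Perp F X ↔ Perp F' X) : F = F' := by
  by_contra hne
  have hp : Perp F F' := (h F').2 (Perp.refl F')
  have hF' : F' ∈ nbF F := ⟨Ne.symm hne, hp⟩
  have key : nbF F ∩ nbF F' = nbF F \ {F'} := by
    ext X
    exact ⟨fun hX => ⟨hX.1, hX.2.1⟩, fun hX => ⟨hX.1, hX.2, (h X).1 hX.1.2⟩⟩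
  have h1 := lam12 H hF'
  rw [key, Set.ncard_diff_singleton_of_mem hF', deg45 H] at h1
  omega

theorem sig_inj {F F' : Fr D z} (h : sig H.closed F = sig H.closed F') : F = F' :=
  eq_of_perp H fun X => by rw [← sig_fix H, ← sig_fix H, h]

theorem commute_sig {F F' : Fr D z} : Commute (sig H.closed F) (sig H.closed F') ↔ Perp F F' := by
  constructor
  · intro h
    refine (sig_fix H).1 (sig_inj H ?_)
    rw [← sig_conj H, h.eq, mul_inv_cancel_right]
  · intro h
    have := sig_conj H F F'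
    rw [sig_perp H h] at this
    exact mul_inv_eq_iff_eq_mul.1 this

theorem commute_cx {F F' : Fr D z} : Commute (cx H.closed F) (cx H.closed F') ↔ Perp F F' :=
  ⟨fun h => (commute_sig H).1 (congrArg Subtype.val h), fun h => Subtype.ext ((commute_sig H).2 h).eq⟩

theorem cx_inj : Function.Injective (cx H.closed (z := z)) := fun _ _ h => sig_inj H (congrArg Subtype.val h)

/-- Every permutation induced carries the permutations along. -/
theorem range_conj {p : Equiv.Perm (Fr D z)} (hp : p ∈ (act H.closed (z := z)).range) (F : Fr D z) :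
    p * sig H.closed F * p⁻¹ = sig H.closed (p F) := by
  obtain ⟨g, rfl⟩ := hp
  exact conj_sig H g F

theorem exists_far (F : Fr D z) : ∃ X, ¬ Perp F X := by
  obtain ⟨F₁, h₁⟩ := Set.nonempty_of_ncard_ne_zero (s := nbF F) (by rw [deg45 H]; norm_num)
  by_contra! hall
  have hsub : nbF F₁ ⊆ {F} ∪ (nbF F ∩ nbF F₁) := fun X hX => by
    by_cases e : X = F
    · exact Or.inl e
    · exact Or.inr ⟨⟨e, hall X⟩, hX⟩
  have := (Set.ncard_le_ncard hsub (Set.toFinite _)).trans (Set.ncard_union_le _ _)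
  rw [deg45 H, Set.ncard_singleton, lam12 H h₁] at this
  omega

theorem sig_ne_one (F : Fr D z) : sig H.closed F ≠ 1 := fun h => by
  obtain ⟨X, hX⟩ := exists_far H F
  exact hX ((sig_fix H).1 (by rw [h]; rfl))

theorem cls_set : Cfsg.IsThreeTranspositionSet (cls H.closed z) := by
  refine ⟨fun d hd => ?_, fun d hd e he => ?_⟩
  · obtain ⟨F, hF⟩ := hd
    rw [← Subgroup.orderOf_coe, ← hF]
    exact orderOf_eq_prime (by rw [pow_two, sig_sq H]) (sig_ne_one H F)
  · obtain ⟨F, hF⟩ := hd
    obtain ⟨F', hF'⟩ := he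
    rcases H.set.2 _ (mem_D (rep_mem F)) _ (mem_D (rep_mem F')) with k | k
    · left
      apply Subtype.ext
      rw [Subgroup.coe_pow, Subgroup.coe_mul, ← hF, ← hF', Subgroup.coe_one]
      show (act H.closed (elt (rep_mem F)) * act H.closed (elt (rep_mem F'))) ^ 2 = 1
      rw [← map_mul, ← map_pow,
        show (elt (rep_mem F) * elt (rep_mem F')) ^ 2 = 1 from Subtype.ext (by simpa using k), map_one]
    · right
      apply Subtype.ext
      rw [Subgroup.coe_pow, Subgroup.coe_mul, ← hF, ← hF', Subgroup.coe_one]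
      show (act H.closed (elt (rep_mem F)) * act H.closed (elt (rep_mem F'))) ^ 3 = 1
      rw [← map_mul, ← map_pow,
        show (elt (rep_mem F) * elt (rep_mem F')) ^ 3 = 1 from Subtype.ext (by simpa using k), map_one]

theorem cls_closed : ConjClosed (cls H.closed z) :=
  ⟨cls_set H, fun g d ⟨F, hF⟩ => ⟨(g : Equiv.Perm (Fr D z)) F, by
    rw [Subgroup.coe_mul, Subgroup.coe_mul, Subgroup.coe_inv, ← hF]
    exact (range_conj H (Yg_le _ g.2) F).symm⟩⟩

/-- Two members not commuting are conjugate under their product. -/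
theorem far_conj {F F' : Fr D z} (h : ¬ Perp F F') :
    cx H.closed F * cx H.closed F' * cx H.closed F * (cx H.closed F * cx H.closed F')⁻¹ = cx H.closed F' := by
  rw [braid (cls_set H) (cx_mem _ F) (cx_mem _ F') (fun k => h ((commute_cx H).1 k)), mul_inv_rev]
  group

theorem nbr_cx (F : Fr D z) : nbr (cls H.closed z) (cx H.closed F) = cx H.closed '' nbF F := by
  ext x
  constructor
  · rintro ⟨hx, hne, hcm⟩
    rw [cls_eq] at hx
    obtain ⟨F', rfl⟩ := hx
    exact ⟨F', ⟨fun e => hne (e ▸ rfl), (commute_cx H).1 hcm⟩, rfl⟩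
  · rintro ⟨F', ⟨hne, hp⟩, rfl⟩
    exact ⟨cx_mem _ F', fun e => hne (cx_inj H e), (commute_cx H).2 hp⟩

theorem cls_params : Params (cls H.closed z) (cls H.closed z).ncard 45 12 18 := by
  have hi := cx_inj H (z := z)
  refine ⟨rfl, ?_, ?_, ?_⟩
  · intro a ha
    obtain ⟨F, rfl⟩ := (cls_eq H.closed).le ha
    rw [nbr_cx H, Set.ncard_image_of_injective _ hi, deg45 H]
  · intro a ha b hb
    obtain ⟨F, rfl⟩ := (cls_eq H.closed).le ha
    rw [nbr_cx H] at hb
    obtain ⟨F', hF', rfl⟩ := hb
    rw [nbr_cx H, nbr_cx H, ← Set.image_inter hi, Set.ncard_image_of_injective _ hi, lam12 H hF']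
  · intro a ha b hb hab
    obtain ⟨F, rfl⟩ := (cls_eq H.closed).le ha
    obtain ⟨F', rfl⟩ := (cls_eq H.closed).le hb
    rw [nbr_cx H, nbr_cx H, ← Set.image_inter hi, Set.ncard_image_of_injective _ hi,
      mu18 H fun k => hab ((commute_cx H).2 k)]

theorem ncard_cls (F : Fr D z) : (cls H.closed z).ncard = 126 := by
  have P := cls_params H (z := z)
  have h1 := P.mul_far (cx_mem _ F)
  have h2 := P.card_far (cx_mem _ F)
  omega

theorem card_frames (F : Fr D z) : Nat.card (Fr D z) = 126 := by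
  rw [← ncard_cls H F, cls_eq, ← Nat.card_coe_set_eq, Nat.card_range_of_injective (cx_inj H)]

theorem exists_far_both (F F' : Fr D z) : ∃ X, ¬ Perp F X ∧ ¬ Perp F' X := by
  by_contra! hall
  have hsub : (Set.univ : Set (Fr D z)) ⊆ ({F} ∪ nbF F) ∪ ({F'} ∪ nbF F') := fun X _ => by
    by_cases h : Perp F X
    · by_cases e : X = F
      · exact Or.inl (Or.inl e)
      · exact Or.inl (Or.inr ⟨e, h⟩)
    · by_cases e : X = F'
      · exact Or.inr (Or.inl e)
      · exact Or.inr (Or.inr ⟨e, hall X h⟩)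
  have h0 := Set.ncard_le_ncard hsub (Set.toFinite _)
  have h1 := Set.ncard_union_le ({F} ∪ nbF F) ({F'} ∪ nbF F')
  have h2 := Set.ncard_union_le ({F} : Set (Fr D z)) (nbF F)
  have h3 := Set.ncard_union_le ({F'} : Set (Fr D z)) (nbF F')
  rw [Set.ncard_univ, card_frames H F] at h0
  rw [Set.ncard_singleton, deg45 H] at h2 h3
  omega

theorem exists_conj_cx (F F' : Fr D z) : ∃ g, g * cx H.closed F * g⁻¹ = cx H.closed F' := by
  by_cases h : Perp F F'
  · obtain ⟨X, h1, h2⟩ := exists_far_both H F F'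
    refine ⟨(cx H.closed X * cx H.closed F') * (cx H.closed F * cx H.closed X), ?_⟩
    rw [show cx H.closed X * cx H.closed F' * (cx H.closed F * cx H.closed X) * cx H.closed F *
        (cx H.closed X * cx H.closed F' * (cx H.closed F * cx H.closed X))⁻¹ =
        cx H.closed X * cx H.closed F' * (cx H.closed F * cx H.closed X * cx H.closed F *
        (cx H.closed F * cx H.closed X)⁻¹) * (cx H.closed X * cx H.closed F')⁻¹ by group,
      far_conj H h1, far_conj H fun k => h2 k.symm]
  · exact ⟨_, far_conj H h⟩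

/-- The frames form one orbit. -/
theorem exists_move (F F' : Fr D z) : ∃ g, act H.closed g F = F' := by
  obtain ⟨g, hg⟩ := exists_conj_cx H F F'
  obtain ⟨x, hx⟩ := Yg_le _ g.2
  refine ⟨x, sig_inj H ?_⟩
  rw [← conj_sig H, hx]
  exact congrArg Subtype.val hg

theorem classTwo (F : Fr D z) : ClassTwo (cls H.closed z) := by
  refine ⟨cls_closed H, Subgroup.closure_closure_coe_preimage, fun a ha b hb => ?_, ?_⟩
  · obtain ⟨A, rfl⟩ := (cls_eq H.closed).le ha
    obtain ⟨B, rfl⟩ := (cls_eq H.closed).le hb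
    exact exists_conj_cx H A B
  · obtain ⟨X, hX⟩ := exists_far H F
    exact ⟨_, cx_mem _ F, _, cx_mem _ X, fun e => hX (cx_inj H e ▸ Perp.refl F)⟩

theorem center_Yg : Subgroup.center ↥(Yg H.closed z) = ⊥ := by
  rw [eq_bot_iff]
  intro x hx
  refine Subtype.ext (Equiv.ext fun F => sig_inj H ?_)
  rw [← range_conj H (Yg_le _ x.2)]
  exact mul_inv_eq_iff_eq_mul.2 (congrArg Subtype.val (Subgroup.mem_center_iff.1 hx (cx H.closed F))).symm

theorem cores (F : Fr D z) :
    Cfsg.pCore 2 ↥(Yg H.closed z) = ⊥ ∧ Cfsg.pCore 3 ↥(Yg H.closed z) = ⊥ := by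
  have hC := classTwo H F
  have hz := center_Yg H (z := z)
  constructor
  · by_contra hne
    obtain ⟨v, hv, hv'⟩ := hC.exists_vRel_ne (fun k => hne (le_bot_iff.1 (hz ▸ k))) (cx_mem _ F)
    obtain ⟨F', rfl⟩ := (cls_eq H.closed).le hv.2.1
    refine hv' (congrArg _ (eq_of_perp H fun X => ?_))
    have := hv.2.2 _ (cx_mem _ X)
    rwa [commute_cx H, commute_cx H] at this
  · by_contra hne
    obtain ⟨v, hv, hv'⟩ := hC.exists_wRel_ne (fun k => hne (le_bot_iff.1 (hz ▸ k))) (cx_mem _ F)
    obtain ⟨F', rfl⟩ := (cls_eq H.closed).le hv.2.1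
    have h1 : ¬ Perp F F' := fun k => hv.not_commute (Ne.symm hv') ((commute_cx H).2 k)
    have h2 : nbr (cls H.closed z) (cx H.closed F) = nbr (cls H.closed z) (cx H.closed F') := hv.2.2
    rw [nbr_cx H, nbr_cx H] at h2
    have h3 := mu18 H h1
    rw [← (cx_inj H).image_injective h2, Set.inter_self, deg45 H] at h3
    omega

theorem good (F : Fr D z) : Classif.Good (cls H.closed z) := by
  obtain ⟨F₁, hne, hp⟩ := Set.nonempty_of_ncard_ne_zero (s := nbF F) (by rw [deg45 H]; norm_num)
  refine Semi.good ⟨classTwo H F, center_Yg H, (cores H F).1, (cores H F).2,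
    cx H.closed F, cx_mem _ F, cx H.closed F₁, cx_mem _ F₁, fun e => hne (cx_inj H e).symm,
    (commute_cx H).2 hp⟩ ?_
  haveI : Nonempty ↥(cls H.closed z) := ⟨⟨_, cx_mem _ F⟩⟩
  have step : ∀ a b : ↥(cls H.closed z),
      Commute (a : ↥(Yg H.closed z)) (b : ↥(Yg H.closed z)) →
      (Cfsg.commutingGraph (cls H.closed z)).Reachable a b := fun a b h => by
    by_cases e : a = b
    · rw [e]
    · exact SimpleGraph.Adj.reachable ((SimpleGraph.fromRel_adj _ a b).2 ⟨e, Or.inl h⟩)
  refine ⟨fun a b => ?_⟩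
  by_cases h : Commute (a : ↥(Yg H.closed z)) (b : ↥(Yg H.closed z))
  · exact step a b h
  · obtain ⟨c, hca, hcb⟩ := Set.nonempty_of_ncard_ne_zero (s := nbr (cls H.closed z) a ∩ nbr (cls H.closed z) b)
      (by rw [(cls_params H).mu _ a.2 _ b.2 h]; norm_num)
    exact (step a ⟨c, hca.1⟩ hca.2.2).trans (step b ⟨c, hcb.1⟩ hcb.2.2).symm

/-- The derived group is `PSU(4,9)`. -/
theorem exists_equiv (F : Fr D z) : ∃ (K : Type) (_ : Field K) (_ : Fintype K), Fintype.card K = 9 ∧
    Nonempty (↥(Yd H.closed z) ≃* Cfsg.PSU 4 K 3) := by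
  obtain ⟨K, _, _, hK, ⟨e⟩⟩ := derived_126 (good H F) (ncard_cls H F)
  refine ⟨K, inferInstance, inferInstance, hK, ⟨?_⟩⟩
  have hm : (commutator ↥(Yg H.closed z)).map (Yg H.closed z).subtype = Yd H.closed z := by
    rw [commutator_def, Subgroup.map_commutator, ← MonoidHom.range_eq_map, Subgroup.range_subtype]
    rfl
  exact ((MulEquiv.subgroupCongr hm).symm.trans
    ((commutator ↥(Yg H.closed z)).equivMapOfInjective _ (Yg H.closed z).subtype_injective).symm).trans e

theorem card_Yd (F : Fr D z) : Nat.card ↥(Yd H.closed z) = 3265920 := by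
  obtain ⟨K, _, _, hK, ⟨e⟩⟩ := exists_equiv H F
  rw [Nat.card_congr e.toEquiv]
  haveI : Fact (Nat.Prime 3) := ⟨Nat.prime_three⟩
  haveI : CharP K 3 := charP_of_card_eq_prime_pow (show Fintype.card K = 3 ^ 2 by rw [hK]; norm_num)
  exact CfsgLib.UFourThree82.card_psu hK

theorem simple_Yd (F : Fr D z) : IsSimpleGroup ↥(Yd H.closed z) := by
  obtain ⟨K, _, _, hK, ⟨e⟩⟩ := exists_equiv H F
  haveI := CfsgLib.ClassicalGroups.psu_isSimpleGroup (q := 3) (n := 4) (F := K) (by rw [hK]; norm_num)
    (by norm_num) (by norm_num)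
  exact MulEquiv.isSimpleGroup e

theorem center_Yd (F : Fr D z) : Subgroup.center ↥(Yd H.closed z) = ⊥ := by
  haveI := simple_Yd H F
  refine (Subgroup.Normal.eq_bot_or_eq_top inferInstance).resolve_right fun h => ?_
  letI : CommGroup ↥(Yd H.closed z) := Group.commGroupOfCenterEqTop h
  have := IsSimpleGroup.prime_card (α := ↥(Yd H.closed z))
  rw [card_Yd H F] at this
  norm_num at this

/-- The permutations induced normalise the derived group. -/
theorem Yd_conj {g y : Equiv.Perm (Fr D z)} (hg : g ∈ (act H.closed (z := z)).range) (hy : y ∈ Yd H.closed z) :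
    g * y * g⁻¹ ∈ Yd H.closed z := by
  have h : (Yg H.closed z).map (MulAut.conj g).toMonoidHom ≤ Yg H.closed z := by
    conv_lhs => rw [Yg, MonoidHom.map_closure]
    rw [Subgroup.closure_le]
    rintro _ ⟨_, ⟨X, rfl⟩, rfl⟩
    exact Subgroup.subset_closure ⟨g X, (range_conj H hg X).symm⟩
  have h' : (Yd H.closed z).map (MulAut.conj g).toMonoidHom ≤ Yd H.closed z := by
    rw [Yd, Subgroup.map_commutator]
    exact Subgroup.commutator_mono h h
  exact h' (Subgroup.mem_map_of_mem _ hy)

omit H in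
/-- A conjugate of an element commuting with the derived group. -/
theorem commute_conj_of {x w y : Equiv.Perm (Fr D z)} {S : Subgroup (Equiv.Perm (Fr D z))}
    (hx : ∀ y ∈ S, Commute x y) (hy : w⁻¹ * y * w ∈ S) : Commute (w * x * w⁻¹) y := by
  have := (Commute.conj_iff w).2 (hx _ hy)
  rwa [show w * (w⁻¹ * y * w) * w⁻¹ = y by group] at this

/-- The derived group is self-centralising among the permutations induced. -/
theorem eq_one_of_commute (F : Fr D z) {x : Equiv.Perm (Fr D z)} (hx : x ∈ (act H.closed (z := z)).range)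
    (h : ∀ y ∈ Yd H.closed z, Commute x y) : x = 1 := by
  have hzc := center_Yd H F
  -- the same inside the group generated
  have hin : ∀ c ∈ Yg H.closed z, (∀ y ∈ Yd H.closed z, Commute c y) → c = 1 := by
    intro c hc hcy
    have hmem : (⟨c, hc⟩ : ↥(Yg H.closed z)) ∈ Subgroup.center ↥(Yg H.closed z) := by
      rw [Subgroup.mem_center_iff]
      rintro ⟨w, hw⟩
      refine Subtype.ext ?_
      have hd : c * w * c⁻¹ * w⁻¹ ∈ Yd H.closed z := Subgroup.commutator_mem_commutator hc hw
      have hz : (⟨_, hd⟩ : ↥(Yd H.closed z)) ∈ Subgroup.center ↥(Yd H.closed z) := by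
        rw [Subgroup.mem_center_iff]
        rintro ⟨y, hy⟩
        refine Subtype.ext ?_
        have h1 : Commute (w * c⁻¹ * w⁻¹) y := commute_conj_of (fun y hy => (hcy y hy).inv_left) (by
          simpa using Yd_conj H (inv_mem (Yg_le _ hw)) hy)
        have h2 : Commute (c * (w * c⁻¹ * w⁻¹)) y := (hcy y hy).mul_left h1
        rw [show c * (w * c⁻¹ * w⁻¹) = c * w * c⁻¹ * w⁻¹ by group] at h2
        exact h2.eq.symm
      rw [hzc, Subgroup.mem_bot] at hz
      have h3 : c * w * c⁻¹ * w⁻¹ = 1 := congrArg Subtype.val hz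
      show w * c = c * w
      rw [mul_inv_eq_one, mul_inv_eq_iff_eq_mul] at h3
      exact h3.symm
    rw [center_Yg H, Subgroup.mem_bot] at hmem
    exact congrArg Subtype.val hmem
  refine Equiv.ext fun X => sig_inj H ?_
  rw [← range_conj H hx]
  show _ = sig H.closed X
  have hs : sig H.closed X ∈ Yg H.closed z := (cx H.closed X).2
  refine mul_inv_eq_one.1 (hin _ (mul_mem ?_ (inv_mem hs)) fun y hy => ?_)
  · rw [range_conj H hx]
    exact (cx H.closed _).2
  · have h1 : Commute (sig H.closed X * x⁻¹ * (sig H.closed X)⁻¹) y := commute_conj_of (fun y hy => (h y hy).inv_left)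
      (by simpa using Yd_conj H (inv_mem (Yg_le _ hs)) hy)
    have h2 := (h y hy).mul_left h1
    rwa [show x * (sig H.closed X * x⁻¹ * (sig H.closed X)⁻¹) = x * sig H.closed X * x⁻¹ * (sig H.closed X)⁻¹ by
      group] at h2

/-- The permutations induced embed in the automorphisms of the derived group. -/
theorem card_range_dvd (F : Fr D z) : Nat.card ↥(act H.closed (z := z)).range ∣ 2 ^ 10 * 3 ^ 6 * 35 := by
  set X := (act H.closed (z := z)).range with hX
  have hle : Yd H.closed z ≤ X := (Yd_le _).trans (Yg_le _)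
  set N := (Yd H.closed z).subgroupOf X with hN
  haveI : N.Normal := ⟨fun n hn g => by
    rw [hN, Subgroup.mem_subgroupOf] at hn ⊢
    exact Yd_conj H g.2 hn⟩
  have hinj : Function.Injective (MulAut.conjNormal : ↥X →* MulAut ↥N) := by
    refine (injective_iff_map_eq_one _).2 fun g hg => Subtype.ext (eq_one_of_commute H F g.2 fun y hy => ?_)
    have h1 := MulEquiv.congr_fun hg (⟨⟨y, hle hy⟩, hy⟩ : ↥N)
    have h2 : (g : Equiv.Perm (Fr D z)) * y * (g : Equiv.Perm (Fr D z))⁻¹ = y := by
      have := congrArg (fun t : ↥N => ((t : ↥X) : Equiv.Perm (Fr D z))) h1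
      simpa using this
    exact mul_inv_eq_iff_eq_mul.1 h2
  obtain ⟨K, _, _, hK, ⟨e⟩⟩ := exists_equiv H F
  have h1 := Subgroup.card_dvd_of_injective _ hinj
  refine h1.trans (dvd_of_eq ?_)
  rw [Nat.card_congr (MulAut.congr ((Subgroup.subgroupOfEquivOfLe hle).trans e)).toEquiv]
  haveI : Fact (Nat.Prime 3) := ⟨Nat.prime_three⟩
  haveI : CharP K 3 := charP_of_card_eq_prime_pow (show Fintype.card K = 3 ^ 2 by rw [hK]; norm_num)
  rw [CfsgLib.AutPSU.card_mulAut (F := K) (q := 3) (m := 2) (by rw [hK]; norm_num) (by norm_num) (by norm_num)]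
  have h2 : Nat.card (K ≃+* K) = 2 := CfsgLib.FieldGalois.card_ringAut (p := 3) (f := 2) (by rw [hK]; norm_num)
  have h3 : Nat.card (CfsgLib.AutPSU.PSUG (2 + 2) K 3) = 3265920 := CfsgLib.UFourThree82.card_psu hK
  rw [h2, h3]
  norm_num

end

end CfsgLib.ThreeTrans.QuadFrame
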