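import Mathlib
import Cfsg.Agent.Lib.ThreeTrans.QuadFrame.Group
import Cfsg.Agent.Lib.ThreeTrans.Tower.Orders
import Cfsg.Agent.Lib.ThreeTrans.Tower.Hexad

/-! The stabiliser of a frame induces all permutations on its four members. -/

set_option autoImplicit false

namespace CfsgLib.ThreeTrans.QuadFrame

open CfsgLib.ThreeTrans CfsgLib.ThreeTrans.Tower CfsgLib.ThreeTrans.TypeTop

universe u

variable {G : Type u} [Group G] {D : Set G} {z : G}

/-- Any two ordered quadruples of commuting members are conjugate. -/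
theorem exists_quad_map [Finite G] (H : Hyp D) {a b c e a' b' c' e' : G} (q : Quad D z a b c e)
    (q' : Quad D z a' b' c' e') :
    ∃ g : G, Commute g z ∧ g * a * g⁻¹ = a' ∧ g * b * g⁻¹ = b' ∧ g * c * g⁻¹ = c' ∧ g * e * g⁻¹ = e' := by
  obtain ⟨d₀, c₀, -, -, hB, h23⟩ := bottom24 H.group H.prim H.m24
  have hp23 := prim23 H.group H.prim hB h23
  have L23 := local23 hB.img_group hp23 h23
  have S := stage_of_base H.group H.prim H.m24.1 L23 hB rfl
  obtain ⟨g₁, hg₁⟩ := S.prim.1 a q.ma a' q'.ma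
  obtain ⟨π, M⟩ := S.base _ q'.ma
  have mv : ∀ {y : G}, y ∈ Dd D a → g₁ * y * g₁⁻¹ ∈ Dd D a' := fun {y} hy =>
    hg₁ ▸ conj_mem_Dd_conj S.closed g₁ hy
  have mv' : ∀ {p y : G}, y ∈ Dd D p → g₁ * y * g₁⁻¹ ∈ Dd D (g₁ * p * g₁⁻¹) := fun {p y} hy =>
    conj_mem_Dd_conj S.closed g₁ hy
  obtain ⟨p₂, c₂, -, -, hB', h22, -⟩ := bottom23 hB.img_group h23
  have S23 := stage_of_base hB.img_group hp23 h23.1
    (local22 hB'.img_group (prim22 hB.img_group hp23 hB' h22) h22) hB' rfl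
  obtain ⟨k, hk1, hk2, hk3⟩ := Tower.triple_transitive S23 L23 (M.mem (mv q.hb))
    ((M.mem_Dd (mv q.hb) (mv q.hc.1)).2 (mv' q.hc.2))
    (c := phi π (g₁ * e * g₁⁻¹))
    ⟨(M.mem_Dd (mv q.hb) (mv q.he.1)).2 (mv' q.he.2.1), (M.mem_Dd (mv q.hc.1) (mv q.he.1)).2 (mv' q.he.2.2)⟩
    (M.mem q'.hb) ((M.mem_Dd q'.hb q'.hc.1).2 q'.hc.2)
    (c' := phi π e') ⟨(M.mem_Dd q'.hb q'.he.1).2 q'.he.2.1, (M.mem_Dd q'.hc.1 q'.he.1).2 q'.he.2.2⟩
  obtain ⟨hh, rfl⟩ := M.base.surj k
  have back : ∀ {y y' : G}, y ∈ Dd D a' → y' ∈ Dd D a' →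
      π hh * phi π y * (π hh)⁻¹ = phi π y' → (hh : G) * y * (hh : G)⁻¹ = y' := fun hy hy' e =>
    M.inj (M.conj_mem hh hy) hy' ((M.phi_conj hh hy).trans e)
  have cmp : ∀ y : G, (hh : G) * g₁ * y * ((hh : G) * g₁)⁻¹ = (hh : G) * (g₁ * y * g₁⁻¹) * (hh : G)⁻¹ :=
    fun y => by group
  have ea : (hh : G) * g₁ * a * ((hh : G) * g₁)⁻¹ = a' := by
    rw [cmp, hg₁]
    exact mul_inv_eq_iff_eq_mul.2 (commute_of_mem_Hd hh.2).eq
  have eb := (cmp b).trans (back (mv q.hb) q'.hb hk1)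
  have ec := (cmp c).trans (back (mv q.hc.1) q'.hc.1 hk2)
  have ee := (cmp e).trans (back (mv q.he.1) q'.he.1 hk3)
  refine ⟨(hh : G) * g₁, mul_inv_eq_iff_eq_mul.1 ?_, ea, eb, ec, ee⟩
  set g := (hh : G) * g₁
  calc g * z * g⁻¹ = (g * a * g⁻¹) * ((g * b * g⁻¹) * ((g * c * g⁻¹) * (g * e * g⁻¹))) := by
        rw [← q.prod]; group
    _ = z := by rw [ea, eb, ec, ee, q'.prod]

/-- Four different members of a frame form a quadruple in every order. -/
theorem quad_of_four {F : Fr D z} {p r s t : G} (hp : p ∈ F.1) (hr : r ∈ F.1) (hs : s ∈ F.1) (ht : t ∈ F.1)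
    (hnd : [p, r, s, t].Nodup) : Quad D z p r s t := by
  classical
  obtain ⟨a, b, c, e, q, hF⟩ := F.2
  have hpr : [p, r, s, t].prod = z := by
    have hsub : [p, r, s, t] ⊆ [a, b, c, e] := by
      intro x hx
      have : x ∈ F.1 := by
        simp only [List.mem_cons, List.not_mem_nil, or_false] at hx
        rcases hx with rfl | rfl | rfl | rfl <;> assumption
      rw [hF] at this
      simpa using this
    have hperm : [p, r, s, t].Perm [a, b, c, e] :=
      (List.subperm_of_subset hnd hsub).perm_of_length_le le_rfl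
    rw [hperm.prod_eq' (List.pairwise_of_forall_mem_list fun x hx y hy => ?_)]
    · simpa using q.prod
    · simp only [List.mem_cons, List.not_mem_nil, or_false] at hx hy
      have key : ∀ w, w = p ∨ w = r ∨ w = s ∨ w = t → w ∈ F.1 := by
        rintro w (rfl | rfl | rfl | rfl) <;> assumption
      exact comm_same (key x hx) (key y hy)
  simp only [List.nodup_cons, List.mem_cons, List.not_mem_nil, or_false, not_or] at hnd
  obtain ⟨⟨npr, nps, npt⟩, ⟨nrs, nrt⟩, nst, -⟩ := hnd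
  exact ⟨mem_D hp, ⟨mem_D hr, Ne.symm npr, comm_same hp hr⟩,
    ⟨⟨mem_D hs, Ne.symm nps, comm_same hp hs⟩, ⟨mem_D hs, Ne.symm nrs, comm_same hr hs⟩⟩,
    ⟨⟨mem_D ht, Ne.symm npt, comm_same hp ht⟩, ⟨mem_D ht, Ne.symm nrt, comm_same hr ht⟩,
      ⟨mem_D ht, Ne.symm nst, comm_same hs ht⟩⟩, by simpa using hpr⟩

/-- The stabiliser of a frame. -/
def St (hc : ConjClosed D) (F : Fr D z) : Subgroup (Subgroup.centralizer ({z} : Set G)) :=
  (MulAction.stabilizer (Equiv.Perm (Fr D z)) F).comap (act hc)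

theorem conj_mem_frame (hc : ConjClosed D) {F : Fr D z} {g : Subgroup.centralizer ({z} : Set G)} (hg : g ∈ St hc F)
    {y : G} (hy : y ∈ F.1) : (g : G) * y * (g : G)⁻¹ ∈ F.1 := by
  have h := mem_act (g := g) hc hy
  rwa [show act hc g F = F from hg] at h

/-- The permutation of the members of a frame by an element fixing it. -/
def restr (hc : ConjClosed D) (F : Fr D z) : ↥(St hc F) →* Equiv.Perm ↥F.1 where
  toFun g :=
    { toFun := fun y => ⟨_, conj_mem_frame hc g.2 y.2⟩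
      invFun := fun y => ⟨_, conj_mem_frame hc (g⁻¹).2 y.2⟩
      left_inv := fun y => Subtype.ext (by simp [mul_assoc])
      right_inv := fun y => Subtype.ext (by simp [mul_assoc]) }
  map_one' := Equiv.ext fun y => Subtype.ext (by simp)
  map_mul' g g' := Equiv.ext fun y => Subtype.ext (by simp [mul_assoc])

theorem restr_apply (hc : ConjClosed D) {F : Fr D z} (g : ↥(St hc F)) (y : ↥F.1) :
    ((restr hc F g y : ↥F.1) : G) = (g.1 : G) * y * (g.1 : G)⁻¹ := rfl

theorem mem_ker_restr (hc : ConjClosed D) {F : Fr D z} (g : ↥(St hc F)) :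
    g ∈ (restr hc F).ker ↔ ∀ y ∈ F.1, Commute (g.1 : G) y := by
  rw [MonoidHom.mem_ker]
  constructor
  · intro h y hy
    have := congrArg Subtype.val (Equiv.congr_fun h ⟨y, hy⟩)
    rw [restr_apply] at this
    exact mul_inv_eq_iff_eq_mul.1 this
  · intro h
    exact Equiv.ext fun y => Subtype.ext ((restr_apply hc g y).trans (mul_inv_eq_iff_eq_mul.2 (h _ y.2).eq))

section
variable [Finite G] (H : Hyp D)
include H

theorem restr_surj (F : Fr D z) : Function.Surjective (restr H.closed F) := by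
  classical
  intro σ
  obtain ⟨a, b, c, e, q, hF⟩ := F.2
  have m : ∀ {y : G}, y ∈ ({a, b, c, e} : Set G) → y ∈ F.1 := fun h => hF ▸ h
  have ma : a ∈ F.1 := m (by simp)
  have mb : b ∈ F.1 := m (by simp)
  have mc : c ∈ F.1 := m (by simp)
  have me : e ∈ F.1 := m (by simp)
  have hne : ∀ {x y : G} (hx : x ∈ F.1) (hy : y ∈ F.1), x ≠ y →
      (σ ⟨x, hx⟩ : G) ≠ (σ ⟨y, hy⟩ : G) := fun hx hy h k =>
    h (congrArg Subtype.val (σ.injective (Subtype.ext k)))
  have q' : Quad D z (σ ⟨a, ma⟩ : G) (σ ⟨b, mb⟩ : G) (σ ⟨c, mc⟩ : G) (σ ⟨e, me⟩ : G) := by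
    refine quad_of_four (σ ⟨a, ma⟩).2 (σ ⟨b, mb⟩).2 (σ ⟨c, mc⟩).2 (σ ⟨e, me⟩).2 ?_
    simp [hne ma mb q.nab, hne ma mc q.nac, hne ma me q.nae, hne mb mc q.nbc, hne mb me q.nbe, hne mc me q.nce]
  obtain ⟨g, hgz, ga, gb, gc, ge⟩ := exists_quad_map H q q'
  let g' : Subgroup.centralizer ({z} : Set G) := ⟨g, Subgroup.mem_centralizer_singleton_iff.2 hgz.eq⟩
  have hfix : g' ∈ St H.closed F := by
    show act H.closed g' F = F
    refine frame_eq H (mem_act (g := g') H.closed ma) ?_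
    show g * a * g⁻¹ ∈ F.1
    rw [ga]
    exact (σ ⟨a, ma⟩).2
  refine ⟨⟨g', hfix⟩, Equiv.ext fun y => Subtype.ext ?_⟩
  rw [restr_apply]
  obtain ⟨y, hy⟩ := y
  have hy' := hF ▸ hy
  rcases hy' with rfl | rfl | rfl | rfl
  exacts [ga, gb, gc, ge]

/-- The order of the stabiliser of a frame. -/
theorem index_St (F : Fr D z) : (St H.closed F).index = 126 := by
  letI : MulAction (Subgroup.centralizer ({z} : Set G)) (Fr D z) := MulAction.compHom _ (act H.closed)
  haveI : MulAction.IsPretransitive (Subgroup.centralizer ({z} : Set G)) (Fr D z) :=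
    ⟨fun A B => exists_move H A B⟩
  rw [show St H.closed F = MulAction.stabilizer (Subgroup.centralizer ({z} : Set G)) F from rfl,
    MulAction.index_stabilizer_of_transitive, card_frames H F]

end

end CfsgLib.ThreeTrans.QuadFrame
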