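import Mathlib
import Cfsg.Agent.Lib.ThreeTrans.QuadFrame.Group
import Cfsg.Agent.Lib.ThreeTrans.QuadFrame.Trans

/-! The centraliser of the four members of a frame, through the group of type M(22) at two of them. -/

set_option autoImplicit false

namespace CfsgLib.ThreeTrans.QuadFrame

open CfsgLib.ThreeTrans CfsgLib.ThreeTrans.Tower CfsgLib.ThreeTrans.TypeTop CfsgLib.ThreeTrans.PairCore

universe u

theorem card_ker_mul_range {A B : Type*} [Group A] [Group B] (f : A →* B) :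
    Nat.card f.ker * Nat.card f.range = Nat.card A := by
  rw [← Subgroup.index_ker, Subgroup.card_mul_index]

variable {G : Type u} [Group G] {D : Set G} {z : G}

/-- The centraliser of four elements. -/
def C4 (a b c e : G) : Subgroup G := Subgroup.centralizer ({a, b, c, e} : Set G)

theorem mem_C4 {a b c e g : G} : g ∈ C4 a b c e ↔ Commute g a ∧ Commute g b ∧ Commute g c ∧ Commute g e := by
  rw [C4, Subgroup.mem_centralizer_iff]
  exact ⟨fun h => ⟨(h a (by simp)).symm, (h b (by simp)).symm, (h c (by simp)).symm, (h e (by simp)).symm⟩,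
    fun h x hx => by
      rcases hx with rfl | rfl | rfl | rfl
      exacts [h.1.eq.symm, h.2.1.eq.symm, h.2.2.1.eq.symm, h.2.2.2.eq.symm]⟩

theorem Quad.C4_le {a b c e : G} (q : Quad D z a b c e) :
    C4 a b c e ≤ Subgroup.centralizer ({z} : Set G) := fun g hg => by
  obtain ⟨ga, gb, gc, ge⟩ := mem_C4.1 hg
  exact Subgroup.mem_centralizer_singleton_iff.2 (q.comm_z ga gb gc ge).eq

variable [Finite G]

/-- What is needed from the centraliser of a frame's members. -/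
theorem four_facts (H : Hyp D) {a b c e : G} (q : Quad D z a b c e) (χ : G →* Multiplicative (ZMod 2))
    (hχ : ∀ d ∈ D, χ d = Multiplicative.ofAdd 1) :
    Nat.card ↥(C4 a b c e) = 2 ^ 12 * 25920 ∧
    Nat.card ↥((act H.closed).comp (Subgroup.inclusion q.C4_le)).ker = 2 ^ 11 ∧
    (∀ x : ↥(C4 a b c e), act H.closed (Subgroup.inclusion q.C4_le x) = 1 → χ x = 1) ∧
    (∀ g : Subgroup.centralizer ({z} : Set G), act H.closed g = 1 → (g : G) * a * (g : G)⁻¹ = b →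
      (g : G) * b * (g : G)⁻¹ = a → Commute (g : G) c → Commute (g : G) e → False) ∧
    (∀ x : ↥(C4 a b c e), act H.closed (Subgroup.inclusion q.C4_le x) = 1 →
      (∀ F : Fr D z, ∀ y ∈ F.1, Commute (x : G) y) → (x : G) = 1 ∨ (x : G) = z) := by
  classical
  have hs := H.set
  obtain ⟨Y, _, _, E, ρ, A⟩ := exists_atQuad H q
  have P := A.data
  obtain ⟨qa, qb⟩ := q.pair
  obtain ⟨K, _, _, θ, Pc⟩ := P.exists_core qa qb q.hb
  have h4 : Nat.card (Cfsg.PSU 4 K 2) = 25920 := CfsgLib.ThreeTrans.USix.card_psu_four Pc.four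
  haveI hsimple : IsSimpleGroup (Cfsg.PSU 4 K 2) :=
    CfsgLib.ClassicalGroups.psu_isSimpleGroup Pc.four (by norm_num) (by norm_num)
  let Cy := Subgroup.centralizer ({pm ρ a, pm ρ b} : Set Y)
  set ι := Subgroup.inclusion q.C4_le with hι
  set s := sig H.closed q.frame with hsdef
  set o : Multiplicative (ZMod 2) := Multiplicative.ofAdd 1 with hodef
  have hoo : o * o = 1 := by rw [hodef]; decide
  have hone : o ≠ 1 := by rw [hodef]; decide
  have hss : s * s = 1 := sig_sq H _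
  have hs1 : s ≠ 1 := sig_ne_one H _
  have hfa : a ∈ q.frame.1 := q.mem_frame
  have hfb : b ∈ q.frame.1 := Set.mem_insert_of_mem _ (Set.mem_insert _ _)
  have hfc : c ∈ q.frame.1 := Set.mem_insert_of_mem _ (Set.mem_insert_of_mem _ (Set.mem_insert _ _))
  have hfe : e ∈ q.frame.1 :=
    Set.mem_insert_of_mem _ (Set.mem_insert_of_mem _ (Set.mem_insert_of_mem _ rfl))
  have hle : C4 a b c e ≤ Subgroup.centralizer ({c, e} : Set G) := fun g hg =>
    mem_pair.2 ⟨(mem_C4.1 hg).2.2.1, (mem_C4.1 hg).2.2.2⟩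
  have hpm : ∀ {x : G} (hx : x ∈ Subgroup.centralizer ({c, e} : Set G)), pm ρ x = ρ ⟨x, hx⟩ :=
    fun {x} hx => pm_of_mem ρ ⟨x, hx⟩
  let ρ' : ↥(C4 a b c e) →* ↥Cy := (ρ.comp (Subgroup.inclusion hle)).codRestrict Cy fun x => by
    refine mem_pair.2 ⟨?_, ?_⟩
    · rw [hpm (mem_pair_Dd qa)]
      exact Commute.map (show Commute (Subgroup.inclusion hle x) ⟨a, mem_pair_Dd qa⟩ from
        Subtype.ext (mem_C4.1 x.2).1.eq) ρ
    · rw [hpm (mem_pair_Dd qb)]
      exact Commute.map (show Commute (Subgroup.inclusion hle x) ⟨b, mem_pair_Dd qb⟩ from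
        Subtype.ext (mem_C4.1 x.2).2.1.eq) ρ
  have hρ' : ∀ x : ↥(C4 a b c e), ((ρ' x : ↥Cy) : Y) = pm ρ (x : G) := fun x => (hpm (hle x.2)).symm
  have hρ'surj : Function.Surjective ρ' := by
    rintro ⟨t, ht⟩
    obtain ⟨⟨g, hg⟩, rfl⟩ := P.surj t
    obtain ⟨t1, t2⟩ := mem_pair.1 ht
    obtain ⟨gc, ge⟩ := mem_pair.1 hg
    have key : ∀ p : G, p ∈ Dd D c ∩ Dd D e → Commute (ρ ⟨g, hg⟩) (pm ρ p) → Commute g p := by
      intro p hp hcm
      have hq : g * p * g⁻¹ ∈ Dd D c ∩ Dd D e := ⟨conj_mem_Dd H.closed gc hp.1, conj_mem_Dd H.closed ge hp.2⟩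
      refine mul_inv_eq_iff_eq_mul.1 (P.inj _ hq p hp ?_)
      rw [hpm (mem_pair_Dd hq), show (⟨g * p * g⁻¹, mem_pair_Dd hq⟩ : Subgroup.centralizer ({c, e} : Set G)) =
        ⟨g, hg⟩ * ⟨p, mem_pair_Dd hp⟩ * ⟨g, hg⟩⁻¹ from rfl, map_mul, map_mul, map_inv, ← hpm (mem_pair_Dd hp),
        hcm.eq, mul_inv_cancel_right]
    exact ⟨⟨g, mem_C4.2 ⟨key a qa t1, key b qb t2, gc, ge⟩⟩, Subtype.ext rfl⟩
  -- the kernel at the pair
  let cC : ↥(C4 a b c e) := ⟨c, mem_C4.2 ⟨q.cac.symm, q.cbc.symm, Commute.refl c, q.cce⟩⟩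
  let eC : ↥(C4 a b c e) := ⟨e, mem_C4.2 ⟨q.cae.symm, q.cbe.symm, q.cce.symm, Commute.refl e⟩⟩
  let aC : ↥(C4 a b c e) := ⟨a, mem_C4.2 ⟨Commute.refl a, q.cab, q.cac, q.cae⟩⟩
  let bC : ↥(C4 a b c e) := ⟨b, mem_C4.2 ⟨q.cab.symm, Commute.refl b, q.cbc, q.cbe⟩⟩
  have hkerρ : ∀ x : ↥(C4 a b c e), ρ' x = 1 ↔
      ((x : G) = 1 ∨ (x : G) = c) ∨ (x : G) = e ∨ (x : G) = c * e := fun x =>
    ⟨fun h => (P.kernel _).1 (congrArg Subtype.val h : ρ (Subgroup.inclusion hle x) = ((1 : ↥Cy) : Y)),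
      fun h => Subtype.ext ((P.kernel (Subgroup.inclusion hle x)).2 h)⟩
  have hker4 : Nat.card ↥ρ'.ker = 4 := by
    rw [← Subgroup.card_map_of_injective (C4 a b c e).subtype_injective]
    show Nat.card ↥((ρ'.ker.map (C4 a b c e).subtype : Subgroup G) : Set G) = 4
    rw [Nat.card_coe_set_eq]
    have he : ((ρ'.ker.map (C4 a b c e).subtype : Subgroup G) : Set G) = {1, c, e, c * e} := by
      ext x
      constructor
      · rintro ⟨y, hy, rfl⟩
        have := (hkerρ y).1 hy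
        simp only [Set.mem_insert_iff, Set.mem_singleton_iff, Subgroup.coe_subtype]
        tauto
      · rintro (rfl | rfl | rfl | rfl)
        exacts [⟨1, one_mem _, rfl⟩, ⟨cC, (hkerρ _).2 (Or.inl (Or.inr rfl)), rfl⟩,
          ⟨eC, (hkerρ _).2 (Or.inr (Or.inl rfl)), rfl⟩, ⟨cC * eC, (hkerρ _).2 (Or.inr (Or.inr rfl)), rfl⟩]
    show ((ρ'.ker.map (C4 a b c e).subtype : Subgroup G) : Set G).ncard = 4
    rw [he, show ({1, c, e, c * e} : Set G) = ↑({1, c, e, c * e} : Finset G) by simp, Set.ncard_coe_finset]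
    have n1 : (1 : G) ≠ c := Ne.symm (ne_one hs q.mc)
    have n2 : (1 : G) ≠ e := Ne.symm (ne_one hs q.me)
    have n3 : (1 : G) ≠ c * e := fun k => q.nce ((mul_eq_one_iff_eq' hs q.me).1 k.symm)
    have n4 : c ≠ c * e := fun k => ne_one hs q.me (mul_left_cancel (a := c) (by rw [← k, mul_one]))
    have n5 : e ≠ c * e := fun k => ne_one hs q.mc (mul_right_cancel (b := e) (by rw [← k, one_mul]))
    rw [Finset.card_insert_of_notMem (by simp [n1, n2, n3]), Finset.card_insert_of_notMem (by simp [q.nce, n4]),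
      Finset.card_pair n5]
  -- the map onto the unitary group
  let Θ : ↥(C4 a b c e) →* Cfsg.PSU 4 K 2 := θ.comp ρ'
  have hΘsurj : Function.Surjective Θ := Pc.surj.comp hρ'surj
  have hkθ : θ.ker.map Cy.subtype = hexGen E (pm ρ a) (pm ρ b) := by
    ext t
    exact ⟨fun ⟨y, hy, e'⟩ => e' ▸ (Pc.ker y).1 hy, fun ht => ⟨⟨t, Pc.le ht⟩, (Pc.ker _).2 ht, rfl⟩⟩
  have hcardCy : Nat.card ↥Cy = 2 ^ 10 * 25920 := by
    have h1 := card_ker_mul_range θ
    rw [MonoidHom.range_eq_top.2 Pc.surj, Subgroup.card_top, h4,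
      ← Subgroup.card_map_of_injective Cy.subtype_injective, hkθ, Pc.card] at h1
    exact h1.symm
  have hcard : Nat.card ↥(C4 a b c e) = 2 ^ 12 * 25920 := by
    have h1 := card_ker_mul_range ρ'
    rw [MonoidHom.range_eq_top.2 hρ'surj, Subgroup.card_top, hker4, hcardCy] at h1
    omega
  have hkerΘcard : Nat.card ↥Θ.ker = 2 ^ 12 := by
    have h1 := card_ker_mul_range Θ
    rw [MonoidHom.range_eq_top.2 hΘsurj, Subgroup.card_top, h4, hcard] at h1
    omega
  -- the elements moving the frames as a power of the frame does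
  let S : Subgroup ↥(C4 a b c e) :=
    { carrier := {x | (act H.closed (ι x) = 1 ∧ χ x = 1) ∨ (act H.closed (ι x) = s ∧ χ x = o)}
      one_mem' := Or.inl ⟨by simp, by simp⟩
      mul_mem' := by
        rintro x y (⟨x1, x2⟩ | ⟨x1, x2⟩) (⟨y1, y2⟩ | ⟨y1, y2⟩)
        · exact Or.inl ⟨by rw [map_mul, map_mul, x1, y1, mul_one], by rw [Subgroup.coe_mul, map_mul, x2, y2, mul_one]⟩
        · exact Or.inr ⟨by rw [map_mul, map_mul, x1, y1, one_mul], by rw [Subgroup.coe_mul, map_mul, x2, y2, one_mul]⟩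
        · exact Or.inr ⟨by rw [map_mul, map_mul, x1, y1, mul_one], by rw [Subgroup.coe_mul, map_mul, x2, y2, mul_one]⟩
        · exact Or.inl ⟨by rw [map_mul, map_mul, x1, y1, hss], by rw [Subgroup.coe_mul, map_mul, x2, y2, hoo]⟩
      inv_mem' := by
        rintro x (⟨x1, x2⟩ | ⟨x1, x2⟩)
        · exact Or.inl ⟨by rw [map_inv, map_inv, x1, inv_one], by rw [Subgroup.coe_inv, map_inv, x2, inv_one]⟩
        · exact Or.inr ⟨by rw [map_inv, map_inv, x1, inv_eq_of_mul_eq_one_right hss],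
            by rw [Subgroup.coe_inv, map_inv, x2, inv_eq_of_mul_eq_one_right hoo]⟩ }
  have hsingle : ∀ {y : G} (hy : y ∈ q.frame.1) (hm : y ∈ C4 a b c e), (⟨y, hm⟩ : ↥(C4 a b c e)) ∈ S :=
    fun {y} hy hm => Or.inr ⟨act_elt H (y := y) hy, hχ y (mem_D hy)⟩
  have hnb : ∀ {y : G}, y ∈ nb D a b c e → y ∈ C4 a b c e := fun hy =>
    mem_C4.2 ⟨hy.1.2.2.symm, hy.2.1.2.2.symm, hy.2.2.1.2.2.symm, hy.2.2.2.2.2.symm⟩
  have hlift : ∀ t ∈ Dd E (pm ρ a) ∩ Dd E (pm ρ b), ∃ y ∈ nb D a b c e, pm ρ y = t := fun t ht => by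
    obtain ⟨y, hy, rfl⟩ := P.onto t ht.1.1
    exact ⟨y, ⟨(P.mem_Dd qa hy).1 ht.1, (P.mem_Dd qb hy).1 ht.2, hy⟩, rfl⟩
  have hgen : hexGen E (pm ρ a) (pm ρ b) ≤ S.map (Cy.subtype.comp ρ') := by
    rw [hexGen, Subgroup.closure_le]
    rintro t ((rfl | rfl) | ⟨t₁, ht₁, w, hw, rfl⟩)
    · exact ⟨aC, hsingle hfa _, hρ' aC⟩
    · exact ⟨bC, hsingle hfb _, hρ' bC⟩
    · obtain ⟨y, hy, rfl⟩ := hlift t₁ ht₁
      obtain ⟨f, g, h, q', hf, hg, hh, hrest⟩ := A.line y hy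
      obtain ⟨f', hf', hfF, rfl⟩ : ∃ f', f' ∈ nb D a b c e ∧ f' ∈ q'.frame.1 ∧ w = pm ρ f' := by
        rcases hrest w hw with k | k | k
        exacts [⟨f, hf, by simp [Quad.frame], k⟩, ⟨g, hg, by simp [Quad.frame], k⟩,
          ⟨h, hh, by simp [Quad.frame], k⟩]
      refine ⟨⟨y, hnb hy⟩ * ⟨f', hnb hf'⟩, Or.inl ⟨act_pair H q'.mem_frame hfF, ?_⟩, ?_⟩
      · rw [Subgroup.coe_mul, map_mul, hχ y hy.1.1, hχ f' hf'.1.1]; exact hoo
      · rw [MonoidHom.comp_apply, Subgroup.coe_subtype, map_mul, Subgroup.coe_mul, hρ', hρ']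
  have hkerS : Θ.ker ≤ S := by
    intro x hx
    obtain ⟨x₀, hx₀, e₀⟩ := hgen ((Pc.ker _).1 (hx : θ (ρ' x) = 1))
    have hk : ρ' (x₀⁻¹ * x) = 1 := by
      rw [map_mul, map_inv, show ρ' x₀ = ρ' x from Subtype.ext e₀, inv_mul_cancel]
    have hd : x₀⁻¹ * x ∈ S := by
      rcases (hkerρ _).1 hk with (k | k) | k | k
      · rw [show x₀⁻¹ * x = 1 from Subtype.ext k]; exact one_mem S
      · rw [show x₀⁻¹ * x = cC from Subtype.ext k]; exact hsingle hfc _
      · rw [show x₀⁻¹ * x = eC from Subtype.ext k]; exact hsingle hfe _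
      · rw [show x₀⁻¹ * x = cC * eC from Subtype.ext k]; exact mul_mem (hsingle hfc _) (hsingle hfe _)
    simpa using mul_mem hx₀ hd
  -- the kernel of the action
  set R := ((act H.closed).comp ι).ker with hR
  have hRΘ : R ≤ Θ.ker := by
    haveI : (R.map Θ).Normal := Subgroup.Normal.map inferInstance Θ hΘsurj
    rcases (inferInstance : (R.map Θ).Normal).eq_bot_or_eq_top with k | k
    · exact fun x hx => Subgroup.mem_bot.1 (k ▸ Subgroup.mem_map_of_mem Θ hx)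
    · exfalso
      obtain ⟨y, hy⟩ := Set.nonempty_of_ncard_ne_zero (s := nb D a b c e) (by rw [A.card]; norm_num)
      obtain ⟨F₁, hyF, hne, -⟩ := exists_frame H q hy
      obtain ⟨x, hx, hxy⟩ := (k ▸ Subgroup.mem_top _ : Θ ⟨y, hnb hy⟩ ∈ R.map Θ)
      have hm : x⁻¹ * ⟨y, hnb hy⟩ ∈ Θ.ker := by rw [MonoidHom.mem_ker, map_mul, map_inv, hxy, inv_mul_cancel]
      have hA : act H.closed (ι (x⁻¹ * ⟨y, hnb hy⟩)) = sig H.closed F₁ := by
        rw [map_mul, map_mul, map_inv, map_inv, show act H.closed (ι x) = 1 from hx, inv_one, one_mul]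
        exact act_elt H hyF
      rcases hkerS hm with ⟨h1, -⟩ | ⟨h1, -⟩
      · exact sig_ne_one H F₁ (hA.symm.trans h1)
      · exact hne (sig_inj H (hA.symm.trans h1))
  have heven : ∀ x : ↥(C4 a b c e), act H.closed (ι x) = 1 → χ x = 1 := fun x hx => by
    rcases hkerS (hRΘ hx) with ⟨-, h2⟩ | ⟨h1, -⟩
    · exact h2
    · exact absurd (h1.symm.trans hx) hs1
  have hRcard : Nat.card ↥R = 2 ^ 11 := by
    let f := ((act H.closed).comp ι).comp Θ.ker.subtype
    have haΘ : aC ∈ Θ.ker := (Pc.ker (ρ' aC)).2 (by rw [hρ']; exact Subgroup.subset_closure (Or.inl (Or.inl rfl)))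
    have hrange : f.range = Subgroup.zpowers s := by
      refine le_antisymm ?_ (Subgroup.zpowers_le.2 ⟨⟨aC, haΘ⟩, act_elt H hfa⟩)
      rintro _ ⟨x, rfl⟩
      rcases hkerS x.2 with ⟨h1, -⟩ | ⟨h1, -⟩
      · show act H.closed (ι x.1) ∈ _
        rw [h1]; exact one_mem _
      · show act H.closed (ι x.1) ∈ _
        rw [h1]; exact Subgroup.mem_zpowers s
    have hmap : f.ker.map Θ.ker.subtype = R := by
      ext x
      exact ⟨fun ⟨y, hy, e'⟩ => e' ▸ hy, fun hx => ⟨⟨x, hRΘ hx⟩, hx, rfl⟩⟩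
    have h1 := card_ker_mul_range f
    rw [hrange, Nat.card_zpowers, orderOf_eq_prime (by rw [pow_two, hss]) hs1, hkerΘcard,
      ← Subgroup.card_map_of_injective Θ.ker.subtype_injective, hmap] at h1
    omega
  refine ⟨hcard, hRcard, heven, fun g hg gab gba gc ge => ?_, fun x hx hall => ?_⟩
  · -- no interchange of two members
    have hgP : (g : G) ∈ Subgroup.centralizer ({c, e} : Set G) := mem_pair.2 ⟨gc, ge⟩
    set γ := ρ ⟨g, hgP⟩ with hγ
    have hconj : ∀ {p : G} (hp : p ∈ Subgroup.centralizer ({c, e} : Set G))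
        (hp' : (g : G) * p * (g : G)⁻¹ ∈ Subgroup.centralizer ({c, e} : Set G)),
        γ * ρ ⟨p, hp⟩ * γ⁻¹ = ρ ⟨_, hp'⟩ := fun {p} hp hp' => by
      rw [hγ, ← map_mul, ← map_inv, ← map_mul]; rfl
    have e1 : γ * pm ρ a * γ⁻¹ = pm ρ b := by
      rw [hpm (mem_pair_Dd qa), hconj _ (by rw [gab]; exact mem_pair_Dd qb), hpm (mem_pair_Dd qb)]
      congr 2
    have e2 : γ * pm ρ b * γ⁻¹ = pm ρ a := by
      rw [hpm (mem_pair_Dd qb), hconj _ (by rw [gba]; exact mem_pair_Dd qa), hpm (mem_pair_Dd qa)]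
      congr 2
    have hab : Commute (pm ρ a) (pm ρ b) := ((P.mem_Dd qa qb).2 q.hb).2.2
    have hcm : Commute γ (pm ρ a * pm ρ b) := mul_inv_eq_iff_eq_mul.1 (by
      rw [show γ * (pm ρ a * pm ρ b) * γ⁻¹ = (γ * pm ρ a * γ⁻¹) * (γ * pm ρ b * γ⁻¹) by group, e1, e2, hab.eq])
    have hgam : γ ∈ hexGen E (pm ρ a) (pm ρ b) := by
      refine Pc.faithful γ hcm fun k hk => ?_
      obtain ⟨x, rfl⟩ := hρ'surj k
      have hx4 : (g : G) * x * (g : G)⁻¹ ∈ C4 a b c e := by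
        obtain ⟨xa, xb, xc, xe⟩ := mem_C4.1 x.2
        have fix : ∀ {p p' : G}, (g : G) * p * (g : G)⁻¹ = p' → Commute (x : G) p →
            Commute ((g : G) * x * (g : G)⁻¹) p' := fun hp hxp => hp ▸ (Commute.conj_iff _).2 hxp
        exact mem_C4.2 ⟨fix gba xb, fix gab xa, fix (mul_inv_eq_iff_eq_mul.2 gc.eq) xc,
          fix (mul_inv_eq_iff_eq_mul.2 ge.eq) xe⟩
      have e3 : (⟨γ * (ρ' x : Y) * γ⁻¹, hk⟩ : ↥Cy) = ρ' ⟨_, hx4⟩ := Subtype.ext (by
        show γ * ρ (Subgroup.inclusion hle x) * γ⁻¹ = ρ (Subgroup.inclusion hle ⟨_, hx4⟩)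
        exact hconj _ _)
      rw [e3]
      show Θ ⟨_, hx4⟩ = Θ x
      have hm : ⟨_, hx4⟩ * x⁻¹ ∈ R := by
        rw [hR, MonoidHom.mem_ker, MonoidHom.comp_apply, map_mul, map_inv,
          show ι ⟨_, hx4⟩ = g * ι x * g⁻¹ from Subtype.ext rfl]
        simp only [map_mul, map_inv, hg, one_mul, inv_one, mul_one, mul_inv_cancel]
      exact mul_inv_eq_one.1 (by rw [← map_inv, ← map_mul]; exact hRΘ hm)
    have e4 : γ * pm ρ a * γ⁻¹ = pm ρ a := by
      rw [(mem_pair.1 (Pc.le hgam)).1.eq, mul_inv_cancel_right]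
    exact q.nab (P.inj a qa b qb (e4.symm.trans e1))
  · -- only the two
    have ht : (ρ' x : Y) ∈ hexGen E (pm ρ a) (pm ρ b) := (Pc.ker _).1 (hRΘ hx : θ (ρ' x) = 1)
    have hcomm : ∀ {y : G}, y ∈ nb D a b c e → Commute (ρ' x : Y) (pm ρ y) := fun {y} hy => by
      obtain ⟨F₁, hyF, -⟩ := exists_frame H q hy
      rw [hρ', hpm (hle x.2), hpm (mem_pair_Dd hy.2.2)]
      exact Commute.map (Subtype.ext (hall F₁ y hyF).eq : Commute (⟨x, hle x.2⟩ :
        Subgroup.centralizer ({c, e} : Set G)) ⟨y, mem_pair_Dd hy.2.2⟩) ρ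
    have hcen : ∀ y ∈ hexGen E (pm ρ a) (pm ρ b), Commute (ρ' x : Y) y := by
      intro y hy
      suffices h : hexGen E (pm ρ a) (pm ρ b) ≤ Subgroup.centralizer {(ρ' x : Y)} from
        (Subgroup.mem_centralizer_singleton_iff.1 (h hy)).symm
      rw [hexGen, Subgroup.closure_le]
      intro t ht
      refine Subgroup.mem_centralizer_singleton_iff.2 (Commute.symm ?_).eq
      rcases ht with (rfl | rfl) | ⟨t₁, ht₁, w, hw, rfl⟩
      · exact (mem_pair.1 (ρ' x).2).1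
      · exact (mem_pair.1 (ρ' x).2).2
      · obtain ⟨y₁, hy₁, rfl⟩ := hlift t₁ ht₁
        obtain ⟨y₂, hy₂, rfl⟩ := hlift w (Pc.orbit _ ht₁ w hw).1
        exact (hcomm hy₁).mul_right (hcomm hy₂)
    obtain ⟨v, hv, hρv⟩ : ∃ v : ↥(C4 a b c e), ((v : G) = 1 ∨ (v : G) = a ∨ (v : G) = b ∨ (v : G) = a * b) ∧
        ρ' v = ρ' x := by
      rcases Pc.central _ ht hcen with k | k | k | k
      · exact ⟨1, Or.inl rfl, by rw [map_one]; exact Subtype.ext k.symm⟩
      · exact ⟨aC, Or.inr (Or.inl rfl), Subtype.ext ((hρ' aC).trans k.symm)⟩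
      · exact ⟨bC, Or.inr (Or.inr (Or.inl rfl)), Subtype.ext ((hρ' bC).trans k.symm)⟩
      · refine ⟨aC * bC, Or.inr (Or.inr (Or.inr rfl)), Subtype.ext ?_⟩
        rw [map_mul, Subgroup.coe_mul, hρ', hρ']
        exact k.symm
    have hw := (hkerρ (v⁻¹ * x)).1 (by rw [map_mul, map_inv, hρv, inv_mul_cancel])
    have hxv : (x : G) = (v : G) * ((v⁻¹ * x : ↥(C4 a b c e)) : G) := by simp
    obtain ⟨X, hX⟩ := exists_far H q.frame
    obtain ⟨f, hf⟩ := nonempty X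
    have hxf := hall X f hf
    have hev := heven x hx
    have pm' := fun {p r : G} (hp : p ∈ q.frame.1) (hr : r ∈ q.frame.1) (hne : p ≠ r) (k : (x : G) = p * r) =>
      pair_move H hX hp hr hne hf (k ▸ hxf)
    have codd : ∀ p r t : G, (x : G) = p * (r * t) → p ∈ D → r ∈ D → t ∈ D → False := fun p r t k hp hr ht => by
      rw [k, map_mul, map_mul, hχ p hp, hχ r hr, hχ t ht] at hev
      exact hone ((by rw [hoo, mul_one] : o * (o * o) = o).symm.trans hev)
    have codd1 : ∀ p : G, (x : G) = p → p ∈ D → False := fun p k hp => by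
      rw [k, hχ p hp] at hev; exact hone hev
    rcases hv with v1 | v1 | v1 | v1 <;> rcases hw with (w1 | w1) | w1 | w1 <;> rw [v1, w1] at hxv
    · exact Or.inl (by simpa using hxv)
    · exact (codd1 c (by simpa using hxv) q.mc).elim
    · exact (codd1 e (by simpa using hxv) q.me).elim
    · exact (pm' hfc hfe q.nce (by simpa using hxv)).elim
    · exact (codd1 a (by simpa using hxv) q.ma).elim
    · exact (pm' hfa hfc q.nac hxv).elim
    · exact (pm' hfa hfe q.nae hxv).elim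
    · exact (codd a c e hxv q.ma q.mc q.me).elim
    · exact (codd1 b (by simpa using hxv) q.mb).elim
    · exact (pm' hfb hfc q.nbc hxv).elim
    · exact (pm' hfb hfe q.nbe hxv).elim
    · exact (codd b c e hxv q.mb q.mc q.me).elim
    · exact (pm' hfa hfb q.nab (by simpa using hxv)).elim
    · exact (codd a b c (hxv.trans (mul_assoc _ _ _)) q.ma q.mb q.mc).elim
    · exact (codd a b e (hxv.trans (mul_assoc _ _ _)) q.ma q.mb q.me).elim
    · exact Or.inr ((hxv.trans (mul_assoc _ _ _)).trans q.prod)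

end CfsgLib.ThreeTrans.QuadFrame
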