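import Mathlib
import Cfsg.Agent.Lib.ThreeTrans.QuadFrame.Four

/-! The kernel of the action on the frames: `3 · 2^13`, inducing `A₄` on every frame, with a normal 2-subgroup whose
commutators and squares centralise all members of all frames. -/

set_option autoImplicit false

namespace CfsgLib.ThreeTrans.QuadFrame

open CfsgLib.ThreeTrans CfsgLib.ThreeTrans.Tower CfsgLib.ThreeTrans.TypeTop

universe u

/-- A normal subgroup of the symmetric group on four points with order divisible by three. -/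
theorem alternating_le {α : Type*} [Fintype α] [DecidableEq α] (h4 : Nat.card α = 4) (R : Subgroup (Equiv.Perm α))
    [hR : R.Normal] (h3 : 3 ∣ Nat.card R) : alternatingGroup α ≤ R := by
  have hidx : R.index ∣ 8 := by
    obtain ⟨t, ht⟩ := h3
    have h := R.index_mul_card
    rw [Nat.card_perm, h4, ht] at h
    refine ⟨t, ?_⟩
    have h' : Nat.factorial 4 = 24 := by decide
    rw [h'] at h
    rw [mul_left_comm] at h
    omega
  rw [← Equiv.Perm.closure_three_cycles_eq_alternating, Subgroup.closure_le]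
  intro x hx
  have ho : orderOf x = 3 := Equiv.Perm.IsThreeCycle.orderOf hx
  have h := R.pow_index_mem x
  rw [← pow_mod_orderOf, ho] at h
  have hr : R.index % 3 = 1 ∨ R.index % 3 = 2 := by
    obtain ⟨i, hi, e⟩ := (Nat.dvd_prime_pow Nat.prime_two).1 (show R.index ∣ 2 ^ 3 from hidx)
    rw [e]; interval_cases i <;> norm_num
  rcases hr with e | e <;> rw [e] at h
  · simpa using h
  · have h2 := mul_mem h h
    rwa [← pow_add, show (2 + 2 : ℕ) = 3 + 1 from rfl, pow_succ, ← ho, pow_orderOf_eq_one, one_mul] at h2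

variable {G : Type u} [Group G] [Finite G] {D : Set G} {z : G}

/-- The kernel of the action on the frames, seen at one frame. -/
theorem kernel_facts (H : Hyp D) {a b c e : G} (q : Quad D z a b c e) (χ : G →* Multiplicative (ZMod 2))
    (hχ : ∀ d ∈ D, χ d = Multiplicative.ofAdd 1) :
    Nat.card (Subgroup.centralizer ({z} : Set G)) = 126 * (24 * (2 ^ 12 * 25920)) ∧
    Nat.card ↥(act H.closed (z := z)).ker = 3 * 2 ^ 13 ∧
    (∀ g : Subgroup.centralizer ({z} : Set G), act H.closed g = 1 → χ g = 1) ∧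
    ∃ Q : Subgroup (Subgroup.centralizer ({z} : Set G)), Nat.card ↥Q = 2 ^ 13 ∧
      (∀ g, g ∈ Q ↔ act H.closed g = 1 ∧ ∃ k : ℕ, g ^ (2 ^ k) = 1) ∧
      (∀ g ∈ Q, ∀ h ∈ Q, ∀ y ∈ q.frame.1, Commute (((g * h * g⁻¹ * h⁻¹ :
        Subgroup.centralizer ({z} : Set G))) : G) y ∧ Commute ((g * g : Subgroup.centralizer ({z} : Set G)) : G) y) := by
  classical
  obtain ⟨hC4, hR4, heven4, hswap, -⟩ := four_facts H q χ hχ
  set Cz := Subgroup.centralizer ({z} : Set G) with hCz
  set F := q.frame with hFdef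
  have hF4 : Nat.card ↥F.1 = 4 := by rw [Nat.card_coe_set_eq, ncard_frame]
  let _ : Fintype ↥F.1 := Fintype.ofFinite _
  haveI : Nontrivial ↥F.1 := Finite.one_lt_card_iff_nontrivial.1 (by rw [hF4]; norm_num)
  have hfa : a ∈ F.1 := q.mem_frame
  have hfb : b ∈ F.1 := Set.mem_insert_of_mem _ (Set.mem_insert _ _)
  have hfc : c ∈ F.1 := Set.mem_insert_of_mem _ (Set.mem_insert_of_mem _ (Set.mem_insert _ _))
  have hfe : e ∈ F.1 := Set.mem_insert_of_mem _ (Set.mem_insert_of_mem _ (Set.mem_insert_of_mem _ rfl))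
  have hK : (act H.closed (z := z)).ker ≤ St H.closed F := fun g hg => by
    show act H.closed g F = F
    rw [show act H.closed g = 1 from hg]; rfl
  have hperm : Nat.card (Equiv.Perm ↥F.1) = 24 := by rw [Nat.card_perm, hF4]; decide
  -- the order of the centraliser
  have hfix : ∀ g : ↥(St H.closed F), g ∈ (restr H.closed F).ker ↔ (g.1 : G) ∈ C4 a b c e := fun g => by
    rw [mem_ker_restr, mem_C4]
    refine ⟨fun h => ⟨h a hfa, h b hfb, h c hfc, h e hfe⟩, fun h y hy => ?_⟩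
    rcases hy with rfl | rfl | rfl | rfl
    exacts [h.1, h.2.1, h.2.2.1, h.2.2.2]
  have hkr : ((restr H.closed F).ker.map (St H.closed F).subtype).map Cz.subtype = C4 a b c e := by
    ext x
    constructor
    · rintro ⟨_, ⟨g, hg, rfl⟩, rfl⟩
      exact (hfix g).1 hg
    · intro hx
      have hm : (⟨x, q.C4_le hx⟩ : Cz) ∈ St H.closed F := by
        show act H.closed ⟨x, q.C4_le hx⟩ F = F
        refine frame_eq H (mem_act H.closed hfa) ?_
        show x * a * x⁻¹ ∈ F.1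
        rw [(mem_C4.1 hx).1.eq, mul_inv_cancel_right]
        exact hfa
      exact ⟨⟨x, q.C4_le hx⟩, ⟨⟨_, hm⟩, (hfix _).2 hx, rfl⟩, rfl⟩
  have hSt : Nat.card ↥(St H.closed F) = 24 * (2 ^ 12 * 25920) := by
    have h1 := card_ker_mul_range (restr H.closed F)
    rw [MonoidHom.range_eq_top.2 (restr_surj H F), Subgroup.card_top, hperm,
      ← Subgroup.card_map_of_injective (St H.closed F).subtype_injective,
      ← Subgroup.card_map_of_injective Cz.subtype_injective, hkr, hC4, mul_comm] at h1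
    exact h1.symm
  have hCcard : Nat.card Cz = 126 * (24 * (2 ^ 12 * 25920)) := by
    rw [← (St H.closed F).card_mul_index, index_St H F, hSt, mul_comm]
  -- the kernel at the frame
  let r₀ : ↥(act H.closed (z := z)).ker →* Equiv.Perm ↥F.1 := (restr H.closed F).comp (Subgroup.inclusion hK)
  have hker₀ : Nat.card ↥r₀.ker = 2 ^ 11 := by
    rw [← hR4, ← Subgroup.card_map_of_injective
        (act H.closed (z := z)).ker.subtype_injective,
      ← Subgroup.card_map_of_injective Cz.subtype_injective,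
      ← Subgroup.card_map_of_injective (K := ((act H.closed).comp (Subgroup.inclusion q.C4_le)).ker)
 (C4 a b c e).subtype_injective]
    congr 2
    ext x
    constructor
    · rintro ⟨_, ⟨g, hg, rfl⟩, rfl⟩
      exact ⟨⟨_, (hfix _).1 hg⟩, g.2, rfl⟩
    · rintro ⟨g, hg, rfl⟩
      exact ⟨_, ⟨⟨Subgroup.inclusion q.C4_le g, hg⟩, (hfix _).2 g.2, rfl⟩, rfl⟩
  have heven₀ : ∀ k ∈ r₀.ker, χ (k.1 : G) = 1 := fun k hk => heven4 ⟨_, (hfix _).1 hk⟩ k.2
  set R := r₀.range with hR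
  haveI hRn : R.Normal := ⟨by
    rintro _ ⟨k, rfl⟩ σ
    obtain ⟨s, rfl⟩ := restr_surj H F σ
    refine ⟨⟨s.1 * k.1 * s.1⁻¹, (MonoidHom.normal_ker _).conj_mem _ k.2 _⟩, ?_⟩
    rw [← map_inv]
    show restr H.closed F _ = restr H.closed F s * restr H.closed F (Subgroup.inclusion hK k) * restr H.closed F s⁻¹
    rw [← map_mul, ← map_mul]
    rfl⟩
  have hKcard : Nat.card ↥(act H.closed (z := z)).ker = 2 ^ 11 * Nat.card R := by
    rw [← hker₀, hR, card_ker_mul_range]
  have h3R : 3 ∣ Nat.card R := by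
    have h1 := card_ker_mul_range (act H.closed (z := z))
    rw [hKcard, hCcard] at h1
    obtain ⟨t, ht⟩ := card_range_dvd H F
    have h2 : 3 ^ 7 ∣ Nat.card R * (2 ^ 11 * (2 ^ 10 * 3 ^ 6 * 35)) := by
      rw [ht, show Nat.card R * (2 ^ 11 * (Nat.card ↥(act H.closed (z := z)).range * t)) =
        2 ^ 11 * Nat.card R * Nat.card ↥(act H.closed (z := z)).range * t by ring, h1]
      exact Dvd.dvd.mul_right (by norm_num) t
    have h3 : 3 ^ 6 * 3 ∣ 3 ^ 6 * (Nat.card R * (2 ^ 21 * 35)) := by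
      rw [show 3 ^ 6 * (Nat.card R * (2 ^ 21 * 35)) = Nat.card R * (2 ^ 11 * (2 ^ 10 * 3 ^ 6 * 35)) by ring]
      exact (pow_succ 3 6) ▸ h2
    exact (Nat.Coprime.dvd_of_dvd_mul_right (by norm_num) (Nat.dvd_of_mul_dvd_mul_left (by norm_num) h3))
  have hAR : alternatingGroup ↥F.1 ≤ R := alternating_le hF4 R h3R
  have hRA : R ≤ alternatingGroup ↥F.1 := by
    intro x hx
    rw [Equiv.Perm.mem_alternatingGroup]
    rcases Int.units_eq_one_or (Equiv.Perm.sign x) with h | h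
    · exact h
    exfalso
    have hne : (⟨a, hfa⟩ : ↥F.1) ≠ ⟨b, hfb⟩ := fun k => q.nab (congrArg Subtype.val k)
    have hm : x * Equiv.swap (⟨a, hfa⟩ : ↥F.1) ⟨b, hfb⟩ ∈ R := hAR (by
      rw [Equiv.Perm.mem_alternatingGroup, map_mul, h, Equiv.Perm.sign_swap hne]; decide)
    have hs : Equiv.swap (⟨a, hfa⟩ : ↥F.1) ⟨b, hfb⟩ ∈ R := by simpa using mul_mem (inv_mem hx) hm
    obtain ⟨k, hk⟩ := hs
    have val : ∀ {y y' : G} (hy : y ∈ F.1) (hy' : y' ∈ F.1),
        Equiv.swap (⟨a, hfa⟩ : ↥F.1) ⟨b, hfb⟩ ⟨y, hy⟩ = ⟨y', hy'⟩ → (k.1 : G) * y * (k.1 : G)⁻¹ = y' := by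
      intro y y' hy hy' e'
      rw [← hk] at e'
      exact congrArg Subtype.val e'
    refine hswap k.1 k.2 (val hfa hfb (Equiv.swap_apply_left _ _)) (val hfb hfa (Equiv.swap_apply_right _ _))
      (mul_inv_eq_iff_eq_mul.1 (val hfc hfc (Equiv.swap_apply_of_ne_of_ne ?_ ?_)))
      (mul_inv_eq_iff_eq_mul.1 (val hfe hfe (Equiv.swap_apply_of_ne_of_ne ?_ ?_))) <;>
      intro k' <;> have k'' := congrArg Subtype.val k'
    exacts [q.nac k''.symm, q.nbc k''.symm, q.nae k''.symm, q.nbe k''.symm]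
  have hReq : R = alternatingGroup ↥F.1 := le_antisymm hRA hAR
  have hR12 : Nat.card R = 12 := by
    have h := two_mul_nat_card_alternatingGroup (α := ↥F.1)
    rw [hperm, ← hReq] at h
    omega
  have hK13 : Nat.card ↥(act H.closed (z := z)).ker = 3 * 2 ^ 13 := by rw [hKcard, hR12]; norm_num
  -- all elements of the kernel are even
  let χK : ↥(act H.closed (z := z)).ker →* Multiplicative (ZMod 2) :=
    χ.comp (Cz.subtype.comp (act H.closed (z := z)).ker.subtype)
  set R' := χK.ker.map r₀ with hR'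
  haveI : R'.Normal := ⟨by
    rintro _ ⟨k, hk, rfl⟩ σ
    obtain ⟨s, rfl⟩ := restr_surj H F σ
    refine ⟨⟨s.1 * k.1 * s.1⁻¹, (MonoidHom.normal_ker _).conj_mem _ k.2 _⟩, ?_, ?_⟩
    · show χ ((s.1 : G) * (k.1 : G) * (s.1 : G)⁻¹) = 1
      rw [map_mul, map_mul, map_inv, show χ (k.1 : G) = 1 from hk, mul_one, mul_inv_cancel]
    · rw [← map_inv]
      show restr H.closed F _ = restr H.closed F s * restr H.closed F (Subgroup.inclusion hK k) * restr H.closed F s⁻¹
      rw [← map_mul, ← map_mul]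
      rfl⟩
  have h3R' : 3 ∣ Nat.card R' := by
    haveI : Fact (Nat.Prime 3) := ⟨Nat.prime_three⟩
    obtain ⟨x, hx⟩ := exists_prime_orderOf_dvd_card' (G := ↥R) 3 h3R
    rw [← Subgroup.orderOf_coe] at hx
    obtain ⟨k, hk⟩ := x.2
    have hm : (x : Equiv.Perm ↥F.1) ∈ R' := by
      refine ⟨k ^ 4, ?_, ?_⟩
      · show χK (k ^ 4) = 1
        rw [map_pow]
        exact (by decide : ∀ u : Multiplicative (ZMod 2), u ^ 4 = 1) _
      · rw [map_pow, hk, show (4 : ℕ) = 3 + 1 from rfl, pow_succ, ← hx, pow_orderOf_eq_one, one_mul]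
    exact hx ▸ Subgroup.orderOf_dvd_natCard R' hm
  have heven : ∀ g : Cz, act H.closed g = 1 → χ g = 1 := fun g hg => by
    obtain ⟨k, hk, e'⟩ := alternating_le hF4 R' h3R' (hReq ▸ ⟨⟨g, hg⟩, rfl⟩ : r₀ ⟨g, hg⟩ ∈ alternatingGroup ↥F.1)
    have h1 := heven₀ (k⁻¹ * ⟨g, hg⟩) (by rw [MonoidHom.mem_ker, map_mul, map_inv, e', inv_mul_cancel])
    have hk' : χ (k.1 : G) = 1 := hk
    simpa [hk'] using h1
  -- the two-part
  set V := (alternatingGroup.kleinFour ↥F.1).map (alternatingGroup ↥F.1).subtype with hV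
  have hV4 : Nat.card V = 4 := by
    rw [hV, Subgroup.card_map_of_injective (alternatingGroup ↥F.1).subtype_injective,
      alternatingGroup.kleinFour_card_of_card_eq_four hF4]
  have hVR : V ≤ R := (Subgroup.map_subtype_le _).trans hAR
  set Q₀ := V.comap r₀ with hQ₀
  set Q := Q₀.map (act H.closed (z := z)).ker.subtype with hQ
  have hQcard : Nat.card Q = 2 ^ 13 := by
    rw [hQ, Subgroup.card_map_of_injective (act H.closed (z := z)).ker.subtype_injective]
    let f := r₀.comp Q₀.subtype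
    have hr : f.range = V := by
      refine le_antisymm ?_ fun v hv => ?_
      · rintro _ ⟨x, rfl⟩; exact x.2
      · obtain ⟨k, rfl⟩ := hVR hv
        exact ⟨⟨k, hv⟩, rfl⟩
    have hk : f.ker.map Q₀.subtype = r₀.ker := by
      ext x
      refine ⟨fun ⟨y, hy, e'⟩ => e' ▸ hy, fun hx => ⟨⟨x, ?_⟩, hx, rfl⟩⟩
      show r₀ x ∈ V
      rw [show r₀ x = 1 from hx]; exact one_mem V
    have h1 := card_ker_mul_range f
    rw [hr, hV4, ← Subgroup.card_map_of_injective Q₀.subtype_injective, hk, hker₀] at h1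
    omega
  have hmem : ∀ g : Cz, g ∈ Q ↔ act H.closed g = 1 ∧ ∃ k : ℕ, g ^ (2 ^ k) = 1 := by
    intro g
    constructor
    · intro hg
      refine ⟨?_, 13, orderOf_dvd_iff_pow_eq_one.1 (hQcard ▸ Subgroup.orderOf_dvd_natCard Q hg)⟩
      obtain ⟨x, -, rfl⟩ := hg
      exact x.2
    · rintro ⟨hg, n, hn⟩
      refine ⟨⟨g, hg⟩, ?_, rfl⟩
      show r₀ ⟨g, hg⟩ ∈ V
      have hA : r₀ ⟨g, hg⟩ ∈ alternatingGroup ↥F.1 := hReq ▸ ⟨⟨g, hg⟩, rfl⟩
      set w : ↥(alternatingGroup ↥F.1) := ⟨_, hA⟩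
      haveI : Fact (Nat.Prime 2) := ⟨Nat.prime_two⟩
      have hw : w ^ (2 ^ n) = 1 := Subtype.ext (by
        show r₀ ⟨g, hg⟩ ^ (2 ^ n) = 1
        rw [← map_pow, show (⟨g, hg⟩ : ↥(act H.closed (z := z)).ker) ^ (2 ^ n) = 1 from Subtype.ext hn, map_one])
      have hp : IsPGroup 2 (Subgroup.zpowers w) := by
        obtain ⟨i, -, hi⟩ := (Nat.dvd_prime_pow Nat.prime_two).1 (orderOf_dvd_of_pow_eq_one hw)
        exact IsPGroup.of_card (n := i) (by rw [Nat.card_zpowers, hi])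
      obtain ⟨S, hS⟩ := hp.exists_le_sylow
      have hSk := alternatingGroup.two_sylow_eq_kleinFour_of_card_eq_four hF4 S
      refine ⟨w, ?_, rfl⟩
      rw [← hSk]
      exact hS (Subgroup.mem_zpowers w)
  refine ⟨hCcard, hK13, heven, Q, hQcard, hmem, ?_⟩
  rintro _ ⟨x, hx, rfl⟩ _ ⟨x', hx', rfl⟩ y hy
  have hK4 := alternatingGroup.kleinFour_isKleinFour hF4
  obtain ⟨v, hv, ev⟩ := hx
  obtain ⟨v', hv', ev'⟩ := hx'
  have sq : ∀ u : ↥(alternatingGroup.kleinFour ↥F.1), u * u = 1 := fun u => IsKleinFour.mul_self u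
  have hvv : v * v = 1 := congrArg Subtype.val (sq ⟨v, hv⟩)
  have hcm : v * v' * v⁻¹ * v'⁻¹ = 1 := by
    have e1 : v'⁻¹ = v' := inv_eq_of_mul_eq_one_right (congrArg Subtype.val (sq ⟨v', hv'⟩))
    have e2 : v⁻¹ = v := inv_eq_of_mul_eq_one_right hvv
    rw [e1, e2]
    have := congrArg Subtype.val (sq (⟨v, hv⟩ * ⟨v', hv'⟩))
    simpa [mul_assoc] using this
  have pass : ∀ w : ↥(act H.closed (z := z)).ker, r₀ w = 1 → Commute (w.1 : G) y := fun w hw =>
    (mem_ker_restr H.closed (Subgroup.inclusion hK w)).1 hw y hy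
  constructor
  · refine pass (x * x' * x⁻¹ * x'⁻¹) ?_
    rw [map_mul, map_mul, map_mul, map_inv, map_inv, ← ev, ← ev', ← map_inv, ← map_inv, ← map_mul, ← map_mul,
      ← map_mul, hcm, map_one]
  · refine pass (x * x) ?_
    rw [map_mul, ← ev, ← map_mul, hvv, map_one]

end CfsgLib.ThreeTrans.QuadFrame
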